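import Cfsg.Agent.H7.Signalizer
import Cfsg.Agent.H10.PSolvable
import Cfsg.Agent.H84.Constrained
import Cfsg.Agent.H33.TwoPrime
import Cfsg.Agent.H5.Fusion
import Cfsg.Agent.H5.Burnside

/-!
Finite groups whose only composite element order is twice an odd prime.
-/

set_option autoImplicit false
set_option linter.style.haveILetI false
set_option linter.unusedSectionVars false

namespace H59.OneComp

open Subgroup

/-- Every element order is one, a prime, or `2p`. -/
structure TwoP (G : Type*) [Group G] (p : ℕ) : Prop where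
  prime : p.Prime
  ne_two : p ≠ 2
  orders : ∀ g : G, orderOf g = 1 ∨ (orderOf g).Prime ∨ orderOf g = 2 * p

variable {G : Type*} [Group G] [Finite G] {p : ℕ}

theorem invol_sq {t : G} (ht : orderOf t = 2) : t * t = 1 := by
  rw [← sq, ← ht, pow_orderOf_eq_one]

theorem orderOf_eq_two {t : G} (h1 : t * t = 1) (h2 : t ≠ 1) : orderOf t = 2 :=
  haveI : Fact (Nat.Prime 2) := ⟨Nat.prime_two⟩
  orderOf_eq_prime (by rw [sq, h1]) h2

theorem ne_one_of_order_two {t : G} (ht : orderOf t = 2) : t ≠ 1 := fun h => by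
  rw [h, orderOf_one] at ht; omega

namespace TwoP

variable (h : TwoP G p)

include h

theorem odd_p : Odd p := h.prime.odd_of_ne_two h.ne_two

theorem odd_prime (g : G) (ho : Odd (orderOf g)) (hg : g ≠ 1) : (orderOf g).Prime := by
  rcases h.orders g with h1 | h1 | h1
  · exact absurd (orderOf_eq_one_iff.1 h1) hg
  · exact h1
  · rw [h1] at ho; exact absurd (even_two_mul p) (Nat.not_even_iff_odd.2 ho)

theorem sq_of_two_pow {g : G} {k : ℕ} (hg : orderOf g = 2 ^ k) : g * g = 1 := by
  rcases h.orders g with h1 | h1 | h1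
  · rw [orderOf_eq_one_iff.1 h1, one_mul]
  · rw [hg] at h1
    rw [← sq, ← orderOf_dvd_iff_pow_eq_one, hg, h1.eq_one_of_pow, pow_one]
  · rw [hg] at h1
    have : p ∣ 2 ^ k := Dvd.intro_left 2 h1.symm
    exact absurd ((Nat.prime_dvd_prime_iff_eq h.prime Nat.prime_two).1
      (h.prime.dvd_of_dvd_pow this)) h.ne_two

theorem sq_of_isPGroup {H : Subgroup G} (hH : IsPGroup 2 H) : ∀ x ∈ H, x * x = 1 := fun x hx => by
  haveI : Fact (Nat.Prime 2) := ⟨Nat.prime_two⟩
  obtain ⟨k, hk⟩ := IsPGroup.iff_orderOf.1 hH ⟨x, hx⟩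
  rw [orderOf_mk] at hk
  exact h.sq_of_two_pow hk

theorem comm_of_isPGroup {H : Subgroup G} (hH : IsPGroup 2 H) : IsMulCommutative H :=
  ⟨⟨fun a b => Subtype.ext (by
    have ha := inv_eq_of_mul_eq_one_right (h.sq_of_isPGroup hH a a.2)
    have hb := inv_eq_of_mul_eq_one_right (h.sq_of_isPGroup hH b b.2)
    have hab := inv_eq_of_mul_eq_one_right (h.sq_of_isPGroup hH _ (H.mul_mem a.2 b.2))
    rw [mul_inv_rev, ha, hb] at hab
    simpa using hab.symm)⟩⟩

theorem elemAb_of_isPGroup {H : Subgroup G} (hH : IsPGroup 2 H) :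
    Cfsg.IsElementaryAbelian 2 H :=
  ⟨h.comm_of_isPGroup hH, fun x hx => by rw [sq]; exact h.sq_of_isPGroup hH x hx⟩

/-- An odd order element commuting with an involution has order `p`. -/
theorem eq_p_of_commute {t g : G} (ht : orderOf t = 2) (hc : Commute g t) (ho : Odd (orderOf g))
    (hg : g ≠ 1) : orderOf g = p := by
  have hm : orderOf (g * t) = orderOf g * 2 := by
    rw [hc.orderOf_mul_eq_mul_orderOf_of_coprime (by rw [ht]; exact Nat.coprime_two_right.2 ho), ht]
  rcases h.orders (g * t) with h1 | h1 | h1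
  · rw [hm] at h1; omega
  · exfalso
    rw [hm] at h1
    have hne : orderOf g ≠ 1 := fun h2 => hg (orderOf_eq_one_iff.1 h2)
    rcases h1.eq_one_or_self_of_dvd 2 (Dvd.intro_left _ rfl) with h2 | h2
    · omega
    · have := orderOf_pos g; omega
  · rw [hm] at h1; omega

/-- A prime order commuting with order `p` is two or `p`. -/
theorem eq_of_commute_p {x y : G} (hx : orderOf x = p) (hc : Commute y x)
    (hy : (orderOf y).Prime) : orderOf y = 2 ∨ orderOf y = p := by
  by_cases hyp : orderOf y = p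
  · exact Or.inr hyp
  left
  have hm : orderOf (y * x) = orderOf y * p := by
    rw [hc.orderOf_mul_eq_mul_orderOf_of_coprime (by
      rw [hx]; exact (Nat.coprime_primes hy h.prime).2 hyp), hx]
  rcases h.orders (y * x) with h1 | h1 | h1
  · rw [hm] at h1
    exact absurd (Nat.eq_one_of_mul_eq_one_left h1) h.prime.ne_one
  · rw [hm] at h1
    exact absurd h1 (Nat.not_prime_mul hy.ne_one h.prime.ne_one)
  · rw [hm] at h1
    exact Nat.eq_of_mul_eq_mul_right h.prime.pos h1

theorem primes_centralizer {z : G} (hz : orderOf z = 2 ∨ orderOf z = p) (r : ℕ) (hr : r.Prime)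
    (hd : r ∣ Nat.card (centralizer ({z} : Set G))) : r = 2 ∨ r = p := by
  haveI := Fact.mk hr
  obtain ⟨⟨y, hy⟩, hyo⟩ := exists_prime_orderOf_dvd_card' r hd
  rw [orderOf_mk] at hyo
  have hc : Commute y z := mem_centralizer_singleton_iff.1 hy
  rcases hz with hz | hz
  · by_cases hr2 : r = 2
    · exact Or.inl hr2
    · exact Or.inr (hyo ▸ h.eq_p_of_commute hz hc (by rw [hyo]; exact hr.odd_of_ne_two hr2)
        (fun h1 => hr.ne_one (by rw [← hyo, h1, orderOf_one])))
  · exact hyo ▸ h.eq_of_commute_p hz hc (by rw [hyo]; exact hr)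

theorem solvable_centralizer {z : G} (hz : orderOf z = 2 ∨ orderOf z = p) :
    Group.IsSolvable (centralizer ({z} : Set G)) :=
  H33.isSolvable_of_two_primes Nat.prime_two h.prime (h.primes_centralizer hz)

theorem isPGroup_of_odd {K : Subgroup G} (hK : Odd (Nat.card K)) {z : G}
    (hz : orderOf z = 2 ∨ orderOf z = p) (hKC : K ≤ centralizer ({z} : Set G)) : IsPGroup p K := by
  refine IsPGroup.of_card (n := (Nat.card K).primeFactorsList.length)
    (Nat.eq_prime_pow_of_unique_prime_dvd Nat.card_pos.ne' fun {d} hd hdd => ?_)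
  rcases h.primes_centralizer hz d hd (hdd.trans (card_dvd_of_le hKC)) with rfl | rfl
  · exact absurd (even_iff_two_dvd.2 hdd) (Nat.not_even_iff_odd.2 hK)
  · rfl

end TwoP

/-- Solvable groups with abelian Sylow 2-subgroups are covered by a Sylow normaliser and the odd
core. -/
theorem normalizer_sup_core {L : Type*} [Group L] [Finite L] [Group.IsSolvable L] (T : Sylow 2 L)
    (hT : IsMulCommutative (T : Subgroup L)) :
    normalizer (T : Set L) ⊔ Cfsg.pPrimeCore 2 L = ⊤ := by
  haveI : Fact (Nat.Prime 2) := ⟨Nat.prime_two⟩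
  set O := Cfsg.pPrimeCore 2 L
  haveI hOn : O.Normal := H1.pPrimeCore_normal' 2 L
  set f := QuotientGroup.mk' O with hf
  have hs : Function.Surjective f := QuotientGroup.mk'_surjective O
  haveI : Group.IsSolvable (L ⧸ O) := Group.isSolvable_of_surjective hs
  set Q := Cfsg.pCore 2 (L ⧸ O)
  have hCQ : centralizer (Q : Set (L ⧸ O)) ≤ Q :=
    H10.centralizer_pCore_le H10.isPSolvable_of_isSolvable H10.pPrimeCore_quotient_pPrimeCore
  set Tb : Subgroup (L ⧸ O) := ((T.mapSurjective hs : Sylow 2 (L ⧸ O)) : Subgroup (L ⧸ O))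
  have hTb : Tb = (T : Subgroup L).map f := rfl
  haveI : Q.Normal := H1.pCore_normal' 2 (L ⧸ O)
  have hQT : Q ≤ Tb := (H1.isPGroup_pCore 2 (L ⧸ O)).le_sylow_of_normal _
  have hTQ : Tb = Q := by
    refine le_antisymm (fun x hx => hCQ (mem_centralizer_iff.2 fun y hy => ?_)) hQT
    rw [hTb] at hx
    have hy' := hQT hy
    rw [hTb] at hy'
    obtain ⟨a, ha, rfl⟩ := hx
    obtain ⟨b, hb, rfl⟩ := hy'
    rw [← map_mul, ← map_mul]
    exact congrArg f (congrArg Subtype.val (hT.is_comm.comm (⟨b, hb⟩ : (T : Subgroup L)) ⟨a, ha⟩))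
  set K := (T : Subgroup L) ⊔ O with hK
  haveI : K.Normal := by
    have : K = Q.comap f := by
      rw [← hTQ, hTb, comap_map_eq, QuotientGroup.ker_mk']
    rw [this]; infer_instance
  have hTK : (T : Subgroup L) ≤ K := le_sup_left
  have h := Sylow.normalizer_sup_eq_top' T hTK
  rw [eq_top_iff, ← h, hK, ← sup_assoc]
  exact sup_le_sup_right (sup_le le_rfl le_normalizer) _

/-- In a simple nonabelian group the normaliser of an abelian Sylow subgroup fixes no hyperplane. -/
theorem exists_moving [IsSimpleGroup G] (hna : ¬ IsMulCommutative G) (S : Sylow 2 G)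
    (hS : IsMulCommutative (S : Subgroup G)) {A : Subgroup G} (hAS : A ≤ S) (hne : A ≠ S)
    (hidx : ∀ a ∈ (S : Subgroup G), ∀ b ∈ (S : Subgroup G), a ∉ A → b ∉ A → a * b ∈ A) :
    ∃ n ∈ normalizer ((S : Subgroup G) : Set G), ∃ a ∈ A, n * a * n⁻¹ ∉ A := by
  haveI : Fact (Nat.Prime 2) := ⟨Nat.prime_two⟩
  by_contra hcon
  push Not at hcon
  refine hne (le_antisymm hAS ?_)
  have hfoc : Subgroup.focalSubgroup (S : Subgroup G) ≤ A := by
    rw [Subgroup.focalSubgroup_def, closure_le]
    rintro _ ⟨hgS, x, hx, u, rfl⟩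
    rw [commutatorElement_def] at hgS ⊢
    have h2 : u * x⁻¹ * u⁻¹ ∈ (S : Subgroup G) := by
      have := (S : Subgroup G).mul_mem ((S : Subgroup G).inv_mem hx) hgS
      rwa [show x⁻¹ * (x * u * x⁻¹ * u⁻¹) = u * x⁻¹ * u⁻¹ by group] at this
    obtain ⟨k, hk, hk'⟩ := H5.control_of_commutative (hc := hS) S x⁻¹ (inv_mem hx) u h2
    rw [show x * u * x⁻¹ * u⁻¹ = x * (u * x⁻¹ * u⁻¹) by group, ← hk']
    by_cases hxA : x ∈ A
    · exact A.mul_mem hxA (hcon k hk _ (A.inv_mem hxA))
    · refine hidx _ hx _ (hk' ▸ h2) hxA fun hm => hxA (A.inv_mem_iff.1 ?_)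
      have := hcon k⁻¹ (inv_mem hk) _ hm
      rwa [show k⁻¹ * (k * x⁻¹ * k⁻¹) * k⁻¹⁻¹ = x⁻¹ by group] at this
  have hG : commutator G = ⊤ :=
    (commutator G).normal_of_characteristic.eq_bot_or_eq_top.resolve_left fun hb =>
      hna ⟨⟨fun a b => by
        rw [← commutatorElement_eq_one_iff_mul_comm, ← mem_bot, ← hb]
        exact commutator_mem_commutator (mem_top a) (mem_top b)⟩⟩
  have := H5.commutator_inf_eq_focalSubgroup_of_hall (S : Subgroup G) S.card_coprime_index
  rw [hG, top_inf_eq] at this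
  exact this.le.trans hfoc

end H59.OneComp
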