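import Cfsg.Agent.H1.CoprimeAction2
import Cfsg.Agent.H31.InvariantMax

/-!
An elementary abelian 2-group acting nontrivially on a group of odd prime power order: if all odd
order elements of the ambient group have prime order, some hyperplane of the 2-group is fixed by
all odd order elements normalising both groups.
-/

set_option autoImplicit false
set_option linter.style.haveILetI false

namespace H59.OneComp

section Abelian

variable {W : Type*} [CommGroup W] {S : Type*} [Group S] (ρ : S →* MulAut W)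

theorem exists_sign_vector (hS : ∀ a b : S, a * b = b * a) (h2 : ∀ s : S, s * s = 1) {s₀ : S}
    {w₀ : W} (hne : ρ s₀ w₀ ≠ w₀) (L : List S) :
    ∃ w : W, w ≠ 1 ∧ ρ s₀ w = w⁻¹ ∧ ∀ s ∈ L, ρ s w = w ∨ ρ s w = w⁻¹ := by
  have hcomm : ∀ (a b : S) (v : W), ρ a (ρ b v) = ρ b (ρ a v) := fun a b v => by
    rw [← MulAut.mul_apply, ← map_mul, hS, map_mul, MulAut.mul_apply]
  have hinv : ∀ (a : S) (v : W), ρ a (ρ a v) = v := fun a v => by
    rw [← MulAut.mul_apply, ← map_mul, h2, map_one, MulAut.one_apply]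
  induction L with
  | nil =>
    refine ⟨w₀⁻¹ * ρ s₀ w₀, fun h => hne (inv_mul_eq_one.1 h).symm, ?_, by simp⟩
    rw [map_mul, map_inv, hinv, mul_inv_rev, inv_inv, mul_comm]
  | cons s L ih =>
    obtain ⟨w, hw, hw0, hwL⟩ := ih
    by_cases hu : w * ρ s w = 1
    · exact ⟨w, hw, hw0, List.forall_mem_cons.2 ⟨Or.inr (eq_inv_of_mul_eq_one_right hu), hwL⟩⟩
    · refine ⟨w * ρ s w, hu, ?_, List.forall_mem_cons.2 ⟨Or.inl ?_, fun b hb => ?_⟩⟩
      · rw [map_mul, hcomm, hw0, map_inv, mul_inv]
      · rw [map_mul, hinv, mul_comm]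
      · rcases hwL b hb with h | h
        · exact Or.inl (by rw [map_mul, hcomm, h])
        · exact Or.inr (by rw [map_mul, hcomm, h, map_inv, mul_inv])

/-- The product of the maps `v ↦ v · ρ(a) v`. -/
def pr : List S → (W →* W)
  | [] => MonoidHom.id W
  | a :: L => (pr L).comp (MonoidHom.id W * (ρ a).toMonoidHom)

theorem pr_fixed (L : List S) (v : W) (h : ∀ a ∈ L, ρ a v = v) : pr ρ L v = v ^ 2 ^ L.length := by
  induction L generalizing v with
  | nil => simp [pr]
  | cons a L ih =>
    rw [pr, MonoidHom.comp_apply]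
    have he : (MonoidHom.id W * (ρ a).toMonoidHom) v = v * v := by
      show v * ρ a v = v * v
      rw [h a List.mem_cons_self]
    rw [he, ih _ (fun b hb => by rw [map_mul, h b (List.mem_cons_of_mem a hb)]), List.length_cons,
      pow_succ' 2, pow_mul, sq]

theorem pr_killed (L : List S) (v : W) (h : ∀ b ∈ L, ρ b v = v ∨ ρ b v = v⁻¹)
    (hk : ∃ a ∈ L, ρ a v = v⁻¹) : pr ρ L v = 1 := by
  induction L generalizing v with
  | nil => obtain ⟨a, ha, -⟩ := hk; simp at ha
  | cons a L ih =>
    rw [pr, MonoidHom.comp_apply]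
    show pr ρ L (v * ρ a v) = 1
    by_cases ha : ρ a v = v⁻¹
    · rw [ha, mul_inv_cancel, map_one]
    · obtain ⟨b, hb, hbv⟩ := hk
      rcases List.mem_cons.1 hb with rfl | hb
      · exact absurd hbv ha
      rw [(h a List.mem_cons_self).resolve_right ha]
      refine ih _ (fun c hc => ?_) ⟨b, hb, by rw [map_mul, hbv, mul_inv]⟩
      rcases h c (List.mem_cons_of_mem a hc) with hcv | hcv
      · exact Or.inl (by rw [map_mul, hcv])
      · exact Or.inr (by rw [map_mul, hcv, mul_inv])

variable [Finite S]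

/-- A sign vector whose norm under an automorphism of prime order vanishes has a stable kernel. -/
theorem kernel_stable (hW : ∀ v : W, v * v = 1 → v = 1) {w : W} (hw : w ≠ 1)
    (hsgn : ∀ s, ρ s w = w ∨ ρ s w = w⁻¹) (σ : W → W) (hσinv : ∀ v, σ v⁻¹ = (σ v)⁻¹) (α : S → S)
    (hσ : ∀ s v, σ (ρ s v) = ρ (α s) (σ v)) {l : ℕ} (hl : l.Prime) (hαl : ∀ s, α^[l] s = s)
    (hnorm : ∏ i ∈ Finset.range l, σ^[i] w = 1) (s : S) (hs : ρ s w = w) : ρ (α s) w = w := by
  classical
  haveI := Fintype.ofFinite S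
  by_contra hcon
  set L := (Finset.univ.filter fun a : S => ρ a w = w).toList with hL
  have hLmem : ∀ a, a ∈ L ↔ ρ a w = w := fun a => by simp [hL]
  have hiter : ∀ (i : ℕ) (a : S) (v : W), σ^[i] (ρ a v) = ρ (α^[i] a) (σ^[i] v) := by
    intro i
    induction i with
    | zero => simp
    | succ i ih => intro a v; simp only [Function.iterate_succ_apply', ih, hσ]
  have hiinv : ∀ (i : ℕ) (v : W), σ^[i] v⁻¹ = (σ^[i] v)⁻¹ := by
    intro i
    induction i with
    | zero => simp
    | succ i ih => intro v; simp only [Function.iterate_succ_apply', ih, hσinv]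
  have hkill : ∀ i ∈ Finset.range l, i ≠ 0 → pr ρ L (σ^[i] w) = 1 := by
    intro i hi hi0
    have hil : i < l := Finset.mem_range.1 hi
    have hsg : ∀ a, ρ a (σ^[i] w) = σ^[i] (ρ (α^[l - i] a) w) := fun a => by
      rw [hiter, ← Function.iterate_add_apply, Nat.add_sub_cancel' hil.le, hαl]
    refine pr_killed ρ L _ (fun a _ => ?_) ?_
    · rcases hsgn (α^[l - i] a) with h | h
      · exact Or.inl (by rw [hsg, h])
      · exact Or.inr (by rw [hsg, h, hiinv])
    · by_contra hno
      push Not at hno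
      -- the kernel is stable under a generator
      have hstep : ∀ a, ρ a w = w → ρ (α^[l - i] a) w = w := by
        intro a ha
        rcases hsgn (α^[l - i] a) with h | h
        · exact h
        · exact absurd (by rw [hsg, h, hiinv]) (hno a ((hLmem a).2 ha))
      have hcop : Nat.Coprime (l - i) l :=
        Nat.Coprime.symm (hl.coprime_iff_not_dvd.2 fun h => by
          have := Nat.le_of_dvd (by omega) h; omega)
      obtain ⟨j, -, hj⟩ := Nat.exists_mul_mod_eq_one_of_coprime hcop hl.one_lt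
      have hmany : ∀ (k : ℕ) (a : S), ρ a w = w → ρ (α^[(l - i) * k] a) w = w := by
        intro k
        induction k with
        | zero => simp
        | succ k ih =>
          intro a ha
          rw [Nat.mul_succ, Function.iterate_add_apply]
          exact ih _ (hstep a ha)
      have hall : ∀ (k : ℕ) (a : S), α^[l * k] a = a := by
        intro k
        induction k with
        | zero => simp
        | succ k ih => intro a; rw [Nat.mul_succ, Function.iterate_add_apply, hαl, ih]
      have := hmany j s hs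
      rw [← Nat.mod_add_div ((l - i) * j) l, hj, Function.iterate_add_apply, hall,
        Function.iterate_one] at this
      exact hcon this
  have h1 := congrArg (pr ρ L) hnorm
  rw [map_prod, map_one, Finset.prod_eq_single 0 hkill
    (fun h => absurd (Finset.mem_range.2 hl.pos) h), Function.iterate_zero_apply,
    pr_fixed ρ L w (fun a ha => (hLmem a).1 ha)] at h1
  have hpow : ∀ (n : ℕ) (v : W), v ^ 2 ^ n = 1 → v = 1 := by
    intro n
    induction n with
    | zero => simp
    | succ n ih =>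
      intro v hv
      rw [pow_succ, pow_mul] at hv
      exact ih v (hW _ (by rw [← sq]; exact hv))
  exact hw (hpow _ _ h1)

end Abelian

open Subgroup
open scoped commutatorElement

variable {G : Type*} [Group G] [Finite G]

theorem conj_pow_iterate (x : G) (i : ℕ) (a : G) :
    (fun b => x * b * x⁻¹)^[i] a = x ^ i * a * (x ^ i)⁻¹ := by
  induction i with
  | zero => simp
  | succ i ih => rw [Function.iterate_succ_apply', ih, pow_succ']; group

/-- Some hyperplane of `S` is fixed by every odd order element normalising `V` and `S`. -/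
theorem exists_fixed_hyperplane (S V : Subgroup G) (hSc : IsMulCommutative S)
    (hS2 : ∀ s ∈ S, s * s = 1) {p : ℕ} [Fact p.Prime] (hp : p ≠ 2) (hV : IsPGroup p V)
    (hSV : S ≤ normalizer (V : Set G)) (hnc : ¬ S ≤ centralizer (V : Set G))
    (hord : ∀ g : G, Odd (orderOf g) → g ≠ 1 → (orderOf g).Prime) :
    ∃ A ≤ S, A ≠ S ∧ (∀ a ∈ S, ∀ b ∈ S, a ∉ A → b ∉ A → a * b ∈ A) ∧
      ∀ x ∈ normalizer (V : Set G), x ∈ normalizer (S : Set G) → Odd (orderOf x) →
        ∀ a ∈ A, x * a * x⁻¹ ∈ A := by
  classical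
  let Φ : Subgroup V := frattini V
  letI : CommGroup (V ⧸ Φ) :=
    { (inferInstance : Group (V ⧸ Φ)) with
      mul_comm := fun a b => by
        induction a using QuotientGroup.induction_on with
        | H a =>
          induction b using QuotientGroup.induction_on with
          | H b =>
            rw [← QuotientGroup.mk_mul, ← QuotientGroup.mk_mul, QuotientGroup.eq]
            refine H31.commutator_le_frattini hV ?_
            rw [show (a * b)⁻¹ * (b * a) = ⁅b⁻¹, a⁻¹⁆ by simp [commutatorElement_def, mul_assoc]]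
            exact commutator_mem_commutator (mem_top _) (mem_top _) }
  let θ : normalizer (V : Set G) →* MulAut V := V.normalizerMonoidHom
  let qm : MulAut V →* MulAut (V ⧸ Φ) :=
    { toFun := fun e => QuotientGroup.congr Φ Φ e (Subgroup.characteristic_iff_map_eq.1 inferInstance e)
      map_one' := by
        ext a
        induction a using QuotientGroup.induction_on with
        | H a => rfl
      map_mul' := fun e f => by
        ext a
        induction a using QuotientGroup.induction_on with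
        | H a => rfl }
  let η : normalizer (V : Set G) →* MulAut (V ⧸ Φ) := qm.comp θ
  have hη : ∀ (g : normalizer (V : Set G)) (v : V) (h : (g : G) * v * (g : G)⁻¹ ∈ V),
      η g (QuotientGroup.mk v) = QuotientGroup.mk ⟨(g : G) * v * (g : G)⁻¹, h⟩ :=
    fun g v h => rfl
  let ρ : S →* MulAut (V ⧸ Φ) := η.comp (inclusion hSV)
  have hSC : ∀ a b : S, a * b = b * a := fun a b => hSc.is_comm.comm a b
  have hS2' : ∀ s : S, s * s = 1 := fun s => Subtype.ext (hS2 s s.2)
  obtain ⟨hodd⟩ : Nonempty (Odd (Nat.card V)) := by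
    obtain ⟨n, hn⟩ := IsPGroup.iff_card.1 hV
    exact ⟨hn ▸ (Nat.Prime.odd_of_ne_two Fact.out hp).pow⟩
  obtain ⟨s₀, v₀, hne⟩ : ∃ (s₀ : S) (w₀ : V ⧸ Φ), ρ s₀ w₀ ≠ w₀ := by
    by_contra hcon
    push Not at hcon
    refine hnc (H1.le_centralizer_of_frattini hSV ?_ fun a ha k hk => ?_)
    · have h1 : Odd (Nat.card Φ) := hodd.of_dvd_nat (card_subgroup_dvd_card Φ)
      have h2 : IsPGroup 2 S := fun x => ⟨1, by rw [pow_one, sq]; exact hS2' x⟩
      obtain ⟨m, hm⟩ := (haveI : Fact (Nat.Prime 2) := ⟨Nat.prime_two⟩; IsPGroup.iff_card.1 h2)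
      rw [hm]
      exact (Nat.coprime_two_left.2 h1).pow_left m
    · have hk' : a * k * a⁻¹ ∈ V := (mem_normalizer_iff.1 (hSV ha) k).1 hk
      have h := hcon ⟨a, ha⟩ (QuotientGroup.mk (⟨k, hk⟩ : V))
      have h' : (QuotientGroup.mk (⟨a * k * a⁻¹, hk'⟩ : V) : V ⧸ Φ) = QuotientGroup.mk ⟨k, hk⟩ := h
      rw [eq_comm, QuotientGroup.eq] at h'
      have h'' := (inferInstance : Φ.Normal).conj_mem _ h' ⟨k, hk⟩
      rw [show (⟨k, hk⟩ : V) * ((⟨k, hk⟩ : V)⁻¹ * ⟨a * k * a⁻¹, hk'⟩) * (⟨k, hk⟩ : V)⁻¹ =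
        ⟨a * k * a⁻¹, hk'⟩ * (⟨k, hk⟩ : V)⁻¹ by group] at h''
      exact ⟨_, h'', rfl⟩
  haveI := Fintype.ofFinite S
  obtain ⟨w, hw, hw0, hsgn⟩ := exists_sign_vector ρ hSC hS2' hne Finset.univ.toList
  have hsgn : ∀ s, ρ s w = w ∨ ρ s w = w⁻¹ := fun s => hsgn s (by simp)
  have hW : ∀ v : V ⧸ Φ, v * v = 1 → v = 1 := by
    intro v hv
    by_contra hv1
    have h2 : orderOf v = 2 := by
      haveI : Fact (Nat.Prime 2) := ⟨Nat.prime_two⟩
      exact orderOf_eq_prime (by rw [sq, hv]) hv1
    have h3 : 2 ∣ Nat.card V :=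
      (h2 ▸ orderOf_dvd_natCard v).trans (Subgroup.card_quotient_dvd_card Φ)
    exact Nat.not_even_iff_odd.2 hodd (even_iff_two_dvd.2 h3)
  -- the kernel
  let A₀ : Subgroup S :=
    { carrier := {s | ρ s w = w}
      one_mem' := by simp
      mul_mem' := fun {a b} (ha : ρ a w = w) (hb : ρ b w = w) => by
        show ρ (a * b) w = w
        rw [map_mul, MulAut.mul_apply, hb, ha]
      inv_mem' := fun {a} (ha : ρ a w = w) => by
        show ρ a⁻¹ w = w
        rw [inv_eq_of_mul_eq_one_right (hS2' a), ha] }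
  refine ⟨A₀.map S.subtype, map_subtype_le _, fun he => ?_, fun a ha b hb haA hbA => ?_,
    fun x hxV hxS hxo a ha => ?_⟩
  · obtain ⟨s, hs, hs'⟩ := (show (s₀ : G) ∈ A₀.map S.subtype by rw [he]; exact s₀.2)
    rw [show s = s₀ from Subtype.ext hs'] at hs
    exact hw (hW w (mul_eq_one_iff_eq_inv.2 ((show ρ s₀ w = w from hs).symm.trans hw0)))
  · have ha' := (hsgn ⟨a, ha⟩).resolve_left fun h => haA ⟨_, h, rfl⟩
    have hb' := (hsgn ⟨b, hb⟩).resolve_left fun h => hbA ⟨_, h, rfl⟩
    refine ⟨⟨a, ha⟩ * ⟨b, hb⟩, ?_, rfl⟩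
    show ρ _ w = w
    rw [map_mul, MulAut.mul_apply, hb', map_inv, ha', inv_inv]
  · obtain ⟨s, hs, rfl⟩ := ha
    by_cases hx1 : x = 1
    · subst hx1; exact ⟨s, hs, by simp⟩
    have hl := hord x hxo hx1
    set l := orderOf x with hldef
    by_cases hxV' : x ∈ V
    · -- then `x` centralises `S`
      have h1 : x * s * x⁻¹ * (s : G)⁻¹ ∈ S :=
        S.mul_mem ((mem_normalizer_iff.1 hxS s).1 s.2) (S.inv_mem s.2)
      have h2 : x * s * x⁻¹ * (s : G)⁻¹ ∈ V := by
        rw [mul_assoc x, mul_assoc]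
        exact V.mul_mem hxV' ((mem_normalizer_iff.1 (hSV s.2) _).1 (V.inv_mem hxV'))
      have h3 : x * s * x⁻¹ * (s : G)⁻¹ = 1 := by
        by_contra hne'
        have ho : orderOf (x * s * x⁻¹ * (s : G)⁻¹) = 2 := by
          haveI : Fact (Nat.Prime 2) := ⟨Nat.prime_two⟩
          exact orderOf_eq_prime (by rw [sq]; exact hS2 _ h1) hne'
        exact Nat.not_even_iff_odd.2 hodd (even_iff_two_dvd.2 (ho ▸ V.orderOf_dvd_natCard h2))
      show x * (s : G) * x⁻¹ ∈ A₀.map S.subtype
      rw [mul_inv_eq_one.1 h3]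
      exact ⟨s, hs, rfl⟩
    let X : normalizer (V : Set G) := ⟨x, hxV⟩
    let α : S → S := fun t => ⟨x * t * x⁻¹, (mem_normalizer_iff.1 hxS t).1 t.2⟩
    have hαit : ∀ (i : ℕ) (t : S), ((α^[i] t : S) : G) = x ^ i * t * (x ^ i)⁻¹ := by
      intro i
      induction i with
      | zero => simp
      | succ i ih =>
        intro t
        rw [Function.iterate_succ_apply', pow_succ']
        show x * (α^[i] t : S) * x⁻¹ = _
        rw [ih]; group
    have hσ : ∀ t v, η X (ρ t v) = ρ (α t) (η X v) := by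
      intro t v
      show η X (η (inclusion hSV t) v) = η (inclusion hSV (α t)) (η X v)
      rw [← MulAut.mul_apply, ← map_mul, ← MulAut.mul_apply, ← map_mul]
      congr 2
      refine Subtype.ext ?_
      show x * t = x * t * x⁻¹ * x
      group
    -- the norm
    obtain ⟨y, rfl⟩ := QuotientGroup.mk_surjective w
    have hkey : ∀ k : ℕ, ∃ P : V, ((y : G) * x) ^ k = P * x ^ k ∧
        (QuotientGroup.mk P : V ⧸ Φ) = ∏ i ∈ Finset.range k, (η X)^[i] (QuotientGroup.mk y) := by
      intro k
      induction k with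
      | zero => exact ⟨1, by simp, by simp⟩
      | succ k ih =>
        obtain ⟨P, hP, hP'⟩ := ih
        have hmem : x ^ k * y * (x ^ k)⁻¹ ∈ V := (mem_normalizer_iff.1 (pow_mem hxV k) y).1 y.2
        refine ⟨P * ⟨_, hmem⟩, ?_, ?_⟩
        · rw [pow_succ, hP, coe_mul, pow_succ]
          group
        · rw [QuotientGroup.mk_mul, hP', Finset.prod_range_succ]
          congr 1
          have hit : ∀ (m : ℕ) (v : V ⧸ Φ), (η X)^[m] v = η (X ^ m) v := by
            intro m
            induction m with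
            | zero => simp
            | succ m ihm => intro v; rw [Function.iterate_succ_apply', ihm, pow_succ', map_mul, MulAut.mul_apply]
          rw [hit]
          exact (hη (X ^ k) y (by simpa using hmem)).symm.trans rfl
    have hg : ((y : G) * x) ^ l = 1 := by
      obtain ⟨P, hP, -⟩ := hkey l
      rw [show x ^ l = 1 from pow_orderOf_eq_one x, mul_one] at hP
      have hodd' : Odd (orderOf ((y : G) * x)) := by
        refine (hxo.mul hodd).of_dvd_nat (orderOf_dvd_of_pow_eq_one ?_)
        rw [pow_mul, hP, ← coe_pow, pow_card_eq_one', coe_one]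
      have hne1 : (y : G) * x ≠ 1 := fun h => hxV' (by
        rw [eq_inv_of_mul_eq_one_right h]; exact V.inv_mem y.2)
      have hr := hord _ hodd' hne1
      by_cases hrl : orderOf ((y : G) * x) = l
      · rw [← hrl, pow_orderOf_eq_one]
      · exfalso
        obtain ⟨Q, hQ, -⟩ := hkey (orderOf ((y : G) * x))
        rw [pow_orderOf_eq_one] at hQ
        have hxr : x ^ orderOf ((y : G) * x) ∈ V := by
          rw [eq_inv_of_mul_eq_one_right hQ.symm]; exact V.inv_mem Q.2
        obtain ⟨j, -, hj⟩ := Nat.exists_mul_mod_eq_one_of_coprime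
          ((Nat.coprime_primes hr hl).2 hrl) hl.one_lt
        have h := V.pow_mem hxr j
        rw [← pow_mul, ← pow_mod_orderOf, show orderOf x = l from rfl, hj, pow_one] at h
        exact hxV' h
    obtain ⟨P, hP, hP'⟩ := hkey l
    rw [hg, show x ^ l = 1 from pow_orderOf_eq_one x, mul_one] at hP
    rw [show P = 1 from Subtype.ext hP.symm, QuotientGroup.mk_one] at hP'
    have hαl : ∀ t, α^[l] t = t := fun t => Subtype.ext (by
      rw [hαit, show x ^ l = 1 from pow_orderOf_eq_one x]; simp)
    exact ⟨α s, kernel_stable ρ hW hw hsgn (η X) (map_inv _) α hσ hl hαl hP'.symm s hs, rfl⟩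

end H59.OneComp
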