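import Cfsg.Agent.H59.OneComp.Basic
import Cfsg.Agent.H59.OneComp.Norm
import Cfsg.Agent.H7.SignalizerSylow
import Cfsg.Agent.H7.RankGraph
import Cfsg.Agent.H8.Coprime
import Cfsg.Agent.H62.Basic
import Cfsg.Agent.H65.StronglyEmbedded
import Cfsg.Prelude.Def_Involutions

/-!
Simple groups with only composite element order `2p`, Sylow 2-subgroups of order at least eight:
the Sylow normaliser is strongly embedded.
-/

set_option autoImplicit false
set_option linter.style.haveILetI false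
set_option linter.unusedSectionVars false

namespace H59.OneComp

open Subgroup

variable {G : Type*} [Group G] [Finite G] {p : ℕ}

/-- A 2-element normalising a Sylow 2-subgroup lies in it. -/
theorem mem_sylow_of_normalizes (S : Sylow 2 G) {x : G}
    (hx : x ∈ normalizer ((S : Subgroup G) : Set G)) {k : ℕ} (hk : orderOf x = 2 ^ k) :
    x ∈ (S : Subgroup G) := by
  haveI : Fact (Nat.Prime 2) := ⟨Nat.prime_two⟩
  have hX : IsPGroup 2 (zpowers x) := IsPGroup.of_card (n := k) (by rw [Nat.card_zpowers, hk])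
  have h := (hX.to_sup_of_normal_right' S.isPGroup' (zpowers_le.2 hx))
  exact S.is_maximal' h le_sup_right ▸ mem_sup_left (mem_zpowers x)

/-- `n` is a product of powers of itself of 2-power and of odd order. -/
theorem exists_two_odd (n : G) : ∃ a b : G, n = a * b ∧ a ∈ zpowers n ∧ b ∈ zpowers n ∧
    (∃ k, orderOf a = 2 ^ k) ∧ Odd (orderOf b) := by
  obtain ⟨k, m, hm, hkm⟩ := Nat.exists_eq_two_pow_mul_odd (orderOf_pos n).ne'
  have hcop : Nat.Coprime (2 ^ k) m := (Nat.coprime_two_left.2 hm).pow_left k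
  obtain ⟨i, j, hij⟩ : ∃ i j : ℤ, (m : ℤ) * i + (2 ^ k : ℕ) * j = 1 :=
    ⟨Nat.gcdA m (2 ^ k), Nat.gcdB m (2 ^ k), by rw [← Nat.gcd_eq_gcd_ab, Nat.Coprime.symm hcop]; rfl⟩
  refine ⟨(n ^ m) ^ i, (n ^ 2 ^ k) ^ j, ?_, zpow_mem (npow_mem_zpowers n m) i,
    zpow_mem (npow_mem_zpowers n _) j, ?_, ?_⟩
  · rw [← zpow_natCast n m, ← zpow_natCast n (2 ^ k), ← zpow_mul, ← zpow_mul, ← zpow_add, hij,
      zpow_one]
  · have h : orderOf ((n ^ m) ^ i) ∣ 2 ^ k := orderOf_dvd_of_pow_eq_one (by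
      rw [← zpow_natCast, ← zpow_mul, mul_comm, zpow_mul, zpow_natCast, ← pow_mul, mul_comm m, ← hkm,
        pow_orderOf_eq_one, one_zpow])
    obtain ⟨e, -, he⟩ := (Nat.dvd_prime_pow Nat.prime_two).1 h
    exact ⟨e, he⟩
  · refine hm.of_dvd_nat (orderOf_dvd_of_pow_eq_one ?_)
    rw [← zpow_natCast, ← zpow_mul, mul_comm, zpow_mul, zpow_natCast, ← pow_mul, ← hkm,
      pow_orderOf_eq_one, one_zpow]

theorem sylow_normalizer_ne_top [IsSimpleGroup G] (hna : ¬ IsMulCommutative G) (S : Sylow 2 G)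
    (hS : 2 ≤ Nat.card (S : Subgroup G)) : normalizer ((S : Subgroup G) : Set G) ≠ ⊤ := by
  haveI : Fact (Nat.Prime 2) := ⟨Nat.prime_two⟩
  intro hN
  haveI : (S : Subgroup G).Normal := normalizer_eq_top_iff.1 hN
  rcases (inferInstance : (S : Subgroup G).Normal).eq_bot_or_eq_top with hb | ht
  · rw [hb, card_bot] at hS; omega
  · exact H62.not_isPGroup_of_simple hna 2 (S.isPGroup'.of_equiv
      ((MulEquiv.subgroupCongr ht).trans Subgroup.topEquiv))

/-- A hyperplane fixed by the odd order normalisers is fixed by the whole normaliser; absurd. -/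
theorem not_fixed [IsSimpleGroup G] (hna : ¬ IsMulCommutative G) (S : Sylow 2 G)
    (hS : IsMulCommutative (S : Subgroup G)) {N : Subgroup G}
    (hN : normalizer ((S : Subgroup G) : Set G) ≤ N) {A : Subgroup G} (hAS : A ≤ S) (hne : A ≠ S)
    (hidx : ∀ a ∈ (S : Subgroup G), ∀ b ∈ (S : Subgroup G), a ∉ A → b ∉ A → a * b ∈ A)
    (hfix : ∀ x ∈ N, x ∈ normalizer ((S : Subgroup G) : Set G) → Odd (orderOf x) →
      ∀ a ∈ A, x * a * x⁻¹ ∈ A) : False := by
  obtain ⟨n, hn, a, ha, hna'⟩ := exists_moving hna S hS hAS hne hidx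
  obtain ⟨u, v, rfl, hu, hv, ⟨k, hk⟩, hodd⟩ := exists_two_odd n
  have huN := zpowers_le.2 hn hu
  have hvN := zpowers_le.2 hn hv
  have huS : u ∈ (S : Subgroup G) := mem_sylow_of_normalizes S huN hk
  have hva := hfix v (hN hvN) hvN hodd a ha
  have hc : Commute u (v * a * v⁻¹) :=
    congrArg Subtype.val (hS.is_comm.comm (⟨u, huS⟩ : (S : Subgroup G)) ⟨_, hAS hva⟩)
  refine hna' ?_
  rw [show u * v * a * (u * v)⁻¹ = u * (v * a * v⁻¹) * u⁻¹ by group, hc.eq, mul_inv_cancel_right]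
  exact hva

/-- The signalizer closure is a p-group. -/
theorem exists_signalizer_group (h : TwoP G p) (S : Sylow 2 G) (hS8 : 8 ≤ Nat.card (S : Subgroup G)) :
    ∃ W : Subgroup G, IsPGroup p W ∧ normalizer ((S : Subgroup G) : Set G) ≤ normalizer (W : Set G) ∧
      ∀ u ∈ (S : Subgroup G), u ≠ 1 → Cfsg.centralizerPPrimeCore 2 u ≤ W := by
  haveI : Fact (Nat.Prime 2) := ⟨Nat.prime_two⟩
  haveI := Fact.mk h.prime
  set A := (S : Subgroup G)
  have hA : Cfsg.IsElementaryAbelian 2 A := h.elemAb_of_isPGroup S.isPGroup'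
  have ho : ∀ a ∈ A, a ≠ 1 → orderOf a = 2 := fun a ha ha1 =>
    orderOf_eq_two (h.sq_of_isPGroup S.isPGroup' a ha) ha1
  have hθ := H7.centralizerPPrimeCore_functor hA
    fun a ha ha1 => h.solvable_centralizer (Or.inl (ho a ha ha1))
  set θ := fun a : G => Cfsg.centralizerPPrimeCore 2 a
  have hq : ∀ a ∈ A, a ≠ 1 → IsPGroup p ↥(θ a) := fun a ha ha1 =>
    h.isPGroup_of_odd (Nat.odd_iff.2 (Nat.two_dvd_ne_zero.1 (hθ.1.2.1 a ha ha1)))
      (Or.inl (ho a ha ha1)) (hθ.1.1 a ha ha1)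
  obtain ⟨-, X, hXinv, hX2, hX⟩ :=
    H7.complete_of_isPGroup hA (by norm_num; omega) hθ hq
  have hAX : A ≤ normalizer (X : Set G) := le_normalizer_iff.2 hXinv
  have hXp : IsPGroup p X := by
    refine IsPGroup.of_card (n := (Nat.card X).primeFactorsList.length)
      (Nat.eq_prime_pow_of_unique_prime_dvd Nat.card_pos.ne' fun {r} hr hrd => ?_)
    by_contra hrp
    haveI := Fact.mk hr
    obtain ⟨R, hR, hAR⟩ := H8.exists_inv_sylowIn (q := r) (H7.elemAb_isPGroup hA) hAX hX2
    have hR2 : ¬ 2 ∣ Nat.card R := fun hd => hX2 (hd.trans (card_dvd_of_le hR.le))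
    have hbot : R ≤ ⊥ := H8.generation_elements hA (by norm_num; omega) hAR hR2
      fun a ha ha1 => by
        intro x hx
        have hxθ : x ∈ θ a := (hX a ha ha1).le ⟨hR.le hx.1, hx.2⟩
        obtain ⟨i, hi⟩ := IsPGroup.iff_orderOf.1 (hq a ha ha1) ⟨x, hxθ⟩
        obtain ⟨j, hj⟩ := IsPGroup.iff_orderOf.1 hR.isPGroup ⟨x, hx.1⟩
        rw [orderOf_mk] at hi hj
        rcases Nat.eq_zero_or_pos j with rfl | hj0
        · exact mem_bot.2 (orderOf_eq_one_iff.1 (by simpa using hj))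
        · exact absurd ((Nat.prime_dvd_prime_iff_eq hr h.prime).1 (hr.dvd_of_dvd_pow
            ((hi.symm.trans hj) ▸ dvd_pow_self r hj0.ne'))) hrp
    exact hR.not_dvd (by
      rw [show R = ⊥ from le_bot_iff.1 hbot]
      simpa [relIndex_bot_left] using hrd)
  refine ⟨X, hXp, ?_, fun u hu hu1 => (hX u hu hu1).ge.trans inf_le_left⟩
  have hsup : X = ⨆ a : {a : G // a ∈ A ∧ a ≠ 1}, θ a := by
    refine le_antisymm (H8.generation_elements hA (by norm_num; omega) hAX hX2 fun a ha ha1 =>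
      (hX a ha ha1).le.trans (le_iSup (fun b : {a : G // a ∈ A ∧ a ≠ 1} => θ b) ⟨a, ha, ha1⟩)) ?_
    exact iSup_le fun b => (hX b b.2.1 b.2.2).ge.trans inf_le_left
  intro n hn
  have hone : ∀ g ∈ normalizer (A : Set G), ∀ x ∈ X, g * x * g⁻¹ ∈ X := by
    intro g hg x hx
    suffices X.map (MulAut.conj g).toMonoidHom ≤ X from this ⟨x, hx, rfl⟩
    conv_lhs => rw [hsup]
    rw [Subgroup.map_iSup, hsup]
    refine iSup_le fun b => ?_
    rw [← H7.centralizerPPrimeCore_conj_eq]
    exact le_iSup (fun c : {a : G // a ∈ A ∧ a ≠ 1} => θ c)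
      ⟨g * b * g⁻¹, (mem_normalizer_iff.1 hg b).1 b.2.1, fun e => b.2.2 (conj_eq_one_iff.1 e)⟩
  refine mem_normalizer_iff.2 fun x => ⟨hone n hn x, fun hx => ?_⟩
  have := hone n⁻¹ (inv_mem hn) _ hx
  simpa [mul_assoc] using this

/-- The odd cores of involution centralisers centralise the Sylow subgroup, so the centralisers lie
in its normaliser, which is strongly embedded. -/
theorem se_normalizer [IsSimpleGroup G] (hna : ¬ IsMulCommutative G) (h : TwoP G p) (S : Sylow 2 G)
    (hS8 : 8 ≤ Nat.card (S : Subgroup G)) :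
    (∀ u ∈ (S : Subgroup G), u ≠ 1 →
        centralizer ({u} : Set G) ≤ normalizer ((S : Subgroup G) : Set G)) ∧
      Cfsg.IsStronglyEmbedded (normalizer ((S : Subgroup G) : Set G)) := by
  haveI : Fact (Nat.Prime 2) := ⟨Nat.prime_two⟩
  haveI := Fact.mk h.prime
  have hSc := h.comm_of_isPGroup S.isPGroup'
  have hS2 := h.sq_of_isPGroup S.isPGroup'
  obtain ⟨W, hW, hNW, hθW⟩ := exists_signalizer_group h S hS8
  have hSW : (S : Subgroup G) ≤ centralizer (W : Set G) := by
    by_contra hnc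
    obtain ⟨A, hAS, hne, hidx, hfix⟩ := exists_fixed_hyperplane (S : Subgroup G) W hSc hS2 h.ne_two
      hW (Subgroup.le_normalizer.trans hNW) hnc h.odd_prime
    exact not_fixed hna S hSc hNW hAS hne hidx hfix
  have hC : ∀ u ∈ (S : Subgroup G), u ≠ 1 →
      centralizer ({u} : Set G) ≤ normalizer ((S : Subgroup G) : Set G) := by
    intro u hu hu1 c hc
    haveI := h.solvable_centralizer (z := u) (Or.inl (orderOf_eq_two (hS2 u hu) hu1))
    have hle : (S : Subgroup G) ≤ centralizer ({u} : Set G) := fun s hs =>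
      mem_centralizer_singleton_iff.2 (congrArg Subtype.val
        (hSc.is_comm.comm (⟨s, hs⟩ : (S : Subgroup G)) ⟨u, hu⟩))
    set T := S.subtype hle
    have hT : IsMulCommutative (T : Subgroup (centralizer ({u} : Set G))) := ⟨⟨fun a b =>
      Subtype.ext (Subtype.ext (show ((a : centralizer ({u} : Set G)) : G) * (b : centralizer ({u} : Set G))
          = (b : centralizer ({u} : Set G)) * ((a : centralizer ({u} : Set G)) : G) from congrArg Subtype.val
        (hSc.is_comm.comm (⟨(a : centralizer ({u} : Set G)), a.2⟩ : (S : Subgroup G))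
          ⟨(b : centralizer ({u} : Set G)), b.2⟩)))⟩⟩
    haveI : (Cfsg.pPrimeCore 2 (centralizer ({u} : Set G))).Normal := H1.pPrimeCore_normal' 2 _
    have htop := (normalizer_sup_core T hT).ge (mem_top (⟨c, hc⟩ : centralizer ({u} : Set G)))
    obtain ⟨n, hn, o, ho, hno⟩ := mem_sup_of_normal_right.1 htop
    have hnN : (n : G) ∈ normalizer ((S : Subgroup G) : Set G) := by
      replace hn : n ∈ normalizer ((T : Subgroup (centralizer ({u} : Set G))) : Set (centralizer ({u} : Set G))) := hn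
      rw [mem_normalizer_iff] at hn ⊢
      intro x
      constructor
      · exact fun hx => (hn ⟨x, hle hx⟩).1 hx
      · intro hx
        have hxC : x ∈ centralizer ({u} : Set G) := by
          have := mul_mem (mul_mem (inv_mem n.2) (hle hx)) n.2
          simpa [mul_assoc] using this
        exact (hn ⟨x, hxC⟩).2 hx
    have hoW : (o : G) ∈ W := hθW u hu hu1 ⟨o, ho, rfl⟩
    have hoC : (o : G) ∈ centralizer ((S : Subgroup G) : Set G) :=
      mem_centralizer_iff.2 fun s hs => (mem_centralizer_iff.1 (hSW hs) o hoW).symm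
    rw [show c = (n : G) * o from (congrArg Subtype.val hno).symm]
    exact mul_mem hnN (centralizer_le_normalizer _ hoC)
  refine ⟨hC, (H65.se_iff_fusion (sylow_normalizer_ne_top hna S (by omega))
    (even_iff_two_dvd.2 ?_)).2 ⟨fun t ht ht2 => hC t ?_ (ne_one_of_order_two ht2), ?_⟩⟩
  · obtain ⟨k, hk⟩ := IsPGroup.iff_card.1 S.isPGroup'
    refine (dvd_trans ?_ (card_dvd_of_le le_normalizer : Nat.card (S : Subgroup G) ∣ _))
    rw [hk]
    refine dvd_pow_self 2 fun h0 => ?_
    rw [h0, pow_zero] at hk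
    omega
  · exact mem_sylow_of_normalizes S ht (k := 1) (by rw [ht2, pow_one])
  · intro t ht s hs ht2 hs2 hts
    obtain ⟨g, hg⟩ := isConj_iff.1 hts
    have htS := mem_sylow_of_normalizes S ht (k := 1) (by rw [ht2, pow_one])
    have hsS := mem_sylow_of_normalizes S hs (k := 1) (by rw [hs2, pow_one])
    obtain ⟨k, hk, hk'⟩ := H5.control_of_commutative (hc := hSc) S t htS g (hg ▸ hsS)
    exact ⟨k, hk, hk'.trans hg⟩

end H59.OneComp
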