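import Cfsg.Agent.H59.OneComp.Struct

/-!
A free element of the automiser's normal subgroup fixes exactly two points of the strongly embedded
action and is self-centralising.
-/

set_option autoImplicit false
set_option linter.style.haveILetI false
set_option linter.unusedSectionVars false

namespace H59.OneComp

open Subgroup

variable {G : Type*} [Group G] [Finite G] {p r : ℕ} {S : Sylow 2 G}

/-- An element of order `r` commuting with no involution. -/
def Good (r : ℕ) (y : G) : Prop := orderOf y = r ∧ ∀ w : G, orderOf w = 2 → ¬ Commute y w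

variable {R : Subgroup (MulAut (S : Subgroup G))}

theorem Setup.conj_into (h : Setup S p) {w : G} (hw : orderOf w = 2) :
    ∃ g : G, g * w * g⁻¹ ∈ (S : Subgroup G) ∧ g * w * g⁻¹ ≠ 1 := by
  obtain ⟨g, hg⟩ := Setup.inter_inverted.exists_conj_into h hw
  exact ⟨g, hg, Setup.inter_inverted.conj_ne_one hw⟩

/-- A nonfree element of order `p` lies in the kernel when `r = p`. -/
theorem Data.commute_of_nonfree (d : Data S p r R) (hrp : r = p) {g : G} (hg : g ∈ Mn S)
    (hn : ¬ Free S g) : ∀ s ∈ (S : Subgroup G), Commute g s := by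
  intro s hs
  have h1 : act S ⟨g, hg⟩ = 1 :=
    by_contra fun hne => hn ((d.free_iff ⟨g, hg⟩).2 ⟨d.full hrp _, hne⟩)
  exact (act_fix ⟨g, hg⟩ ⟨s, hs⟩).1 (by rw [h1]; rfl)

theorem Setup.free_order_eq (h : Setup S p) (d : Data S p r R) {g : G} (hg : Free S g) :
    orderOf g = r := by
  have h1 := (d.free_iff ⟨g, hg.1⟩).1 hg
  have h2 : orderOf (act S ⟨g, hg.1⟩) = r := by
    rcases (Nat.dvd_prime d.prime).1 (d.card_R ▸ Subgroup.orderOf_dvd_natCard R h1.1) with h3 | h3
    · exact absurd (orderOf_eq_one_iff.1 h3) h1.2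
    · exact h3
  have h3 : r ∣ orderOf g := by
    rw [← h2, show orderOf g = orderOf (⟨g, hg.1⟩ : Mn S) from (Subgroup.orderOf_mk g hg.1).symm]
    exact orderOf_map_dvd _ _
  exact ((Nat.prime_dvd_prime_iff_eq d.prime (h.free_prime hg)).1 h3).symm

/-- An element inverted by an outside involution is good. -/
theorem Setup.good_of_inverted (h : Setup S p) (d : Data S p r R) {v y : G} (hv : orderOf v = 2)
    (hvM : v ∉ Mn S) (hy : y ∈ Mn S) (hi : v * y * v⁻¹ = y⁻¹) (hy1 : y ≠ 1) : Good r y := by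
  have hf := h.inv_free hv hvM hy hi hy1
  have ho := h.free_order_eq d hf
  refine ⟨ho, fun w hw hc => ?_⟩
  have hodd := h.free_odd hf
  have hyp := h.twoP.eq_p_of_commute hw hc hodd hy1
  have hrp : r = p := ho.symm.trans hyp
  obtain ⟨g, hgw, hgw1⟩ := h.conj_into hw
  set y' := g * y * g⁻¹ with hy'
  set v' := g * v * g⁻¹ with hv'
  have hc' : Commute y' (g * w * g⁻¹) := hc.map (MulAut.conj g).toMonoidHom
  have hy'M : y' ∈ Mn S := h.cent _ hgw hgw1 (mem_centralizer_singleton_iff.2 hc'.eq)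
  have hzS := d.commute_of_nonfree hrp hy'M fun hf' => hf'.2 _ hgw hgw1 hc'
  have hy'o : orderOf y' = p := by
    rw [show y' = MulAut.conj g y from rfl, MulEquiv.orderOf_eq, hyp]
  have hle := h.centralizer_le hy'o hzS
  have hi' : v' * y' * v'⁻¹ = y'⁻¹ := by
    simp only [hv', hy']
    rw [show g * v * g⁻¹ * (g * y * g⁻¹) * (g * v * g⁻¹)⁻¹ = g * (v * y * v⁻¹) * g⁻¹ by group, hi]
    group
  have hv'2 : orderOf v' = 2 := H67.invol_conj hv g
  have hv'M : v' ∈ Mn S := by
    obtain ⟨s, hs, hs1⟩ := h.exists_ne_one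
    refine inv_mem_iff.1 (H65.se_conj_mem h.se (g := v'⁻¹) (h.invol_of_mem hs hs1) (le_normalizer hs) ?_)
    rw [inv_inv]
    refine hle (mem_centralizer_singleton_iff.2 ?_)
    have h1 : y' * v' = v' * y'⁻¹ := by
      have h2 : v' * y'⁻¹ * v'⁻¹ = y' := by rw [← conj_inv, hi', inv_inv]
      exact (mul_inv_eq_iff_eq_mul.1 h2).symm
    have hv'i : v'⁻¹ = v' := inv_eq_of_mul_eq_one_right (invol_sq hv'2)
    calc v' * s * v'⁻¹ * y' = v' * s * (v'⁻¹ * y' * v') * v'⁻¹ := by group
      _ = v' * s * (v' * y' * v'⁻¹) * v'⁻¹ := by rw [hv'i]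
      _ = v' * (s * y'⁻¹) * v'⁻¹ := by rw [hi']; group
      _ = v' * (y'⁻¹ * s) * v'⁻¹ := by rw [((hzS s hs).inv_left).eq]
      _ = (v' * y'⁻¹ * v'⁻¹) * (v' * s * v'⁻¹) := by group
      _ = y' * (v' * s * v'⁻¹) := by rw [← conj_inv, hi', inv_inv]
  have := h.not_inverted (h.invol_mem hv'M hv'2) hy'M (by rw [hy'o]; exact h.twoP.odd_p) hi'
  exact hy1 (conj_eq_one_iff.1 this)

theorem Data.odd_r (d : Data S p r R) (h : Setup S p) : Odd r := by
  refine d.prime.odd_of_ne_two fun h2 => ?_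
  have := h.big
  rw [d.card_S, h2] at this
  omega

theorem Good.ne_one (h : Setup S p) (d : Data S p r R) {y : G} (hy : Good r y) : y ≠ 1 := fun e => by
  have := hy.1
  rw [e, orderOf_one] at this
  exact d.prime.ne_one this.symm

theorem Good.conj {y : G} (hy : Good r y) (g : G) : Good r (g * y * g⁻¹) := by
  refine ⟨(MulEquiv.orderOf_eq (MulAut.conj g) y).trans hy.1, fun w hw hc => hy.2 (g⁻¹ * w * g⁻¹⁻¹) ?_ ?_⟩
  · exact H67.invol_conj hw g⁻¹
  · have := hc.map (MulAut.conj g⁻¹).toMonoidHom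
    simpa [mul_assoc] using this

/-- Elements commuting with a good element have order `r`. -/
theorem Good.centralizer_order (h : Setup S p) (d : Data S p r R) {y z : G} (hy : Good r y)
    (hc : Commute z y) (hz : z ≠ 1) : orderOf z = r := by
  have hodd : Odd (orderOf z) := by
    by_contra hne
    obtain ⟨m, hm⟩ := Nat.not_odd_iff_even.1 hne
    have hpos := orderOf_pos z
    have ho : orderOf (z ^ m) = 2 := by
      rw [orderOf_pow' z (by omega), hm, Nat.gcd_eq_right (Dvd.intro_left 2 (by omega))]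
      exact Nat.div_eq_of_eq_mul_left (by omega) (by omega)
    exact hy.2 _ ho (hc.symm.pow_right m)
  have hl := h.twoP.odd_prime z hodd hz
  by_contra hne
  have hm : orderOf (z * y) = orderOf z * r := by
    rw [hc.orderOf_mul_eq_mul_orderOf_of_coprime (by
      rw [hy.1]; exact (Nat.coprime_primes hl d.prime).2 hne), hy.1]
  have hodd2 : Odd (orderOf (z * y)) := hm ▸ hodd.mul (d.odd_r h)
  have := h.twoP.odd_prime _ hodd2 fun e => by
    rw [e, orderOf_one] at hm
    exact d.prime.ne_one (Nat.eq_one_of_mul_eq_one_left hm.symm)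
  rw [hm] at this
  exact Nat.not_prime_mul hl.ne_one d.prime.ne_one this

/-- Nothing but the identity in the centraliser of a good element commutes with an involution
inverting it. -/
theorem Good.fixedPointFree (h : Setup S p) (d : Data S p r R) {y u c : G} (hy : Good r y)
    (hu : orderOf u = 2) (hi : u * y * u⁻¹ = y⁻¹) (hc : Commute c y) (hcu : Commute c u) : c = 1 := by
  by_contra hc1
  have hco := hy.centralizer_order h d hc hc1
  have hcodd : Odd (orderOf c) := hco ▸ d.odd_r h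
  have hrp : r = p := hco.symm.trans (h.twoP.eq_p_of_commute hu hcu hcodd hc1)
  obtain ⟨g, hgu, hgu1⟩ := h.conj_into hu
  set c' := g * c * g⁻¹
  have hcu' : Commute c' (g * u * g⁻¹) := hcu.map (MulAut.conj g).toMonoidHom
  have hc'M : c' ∈ Mn S := h.cent _ hgu hgu1 (mem_centralizer_singleton_iff.2 hcu'.eq)
  have hle := h.centralizer_le (z := c')
    (by rw [show c' = MulAut.conj g c from rfl, MulEquiv.orderOf_eq, hco, hrp])
    (d.commute_of_nonfree hrp hc'M fun hf => hf.2 _ hgu hgu1 hcu')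
  have hyM : g * y * g⁻¹ ∈ Mn S := hle (mem_centralizer_singleton_iff.2
    ((hc.map (MulAut.conj g).toMonoidHom).symm.eq))
  have := h.not_inverted hgu hyM (by rw [(hy.conj g).1]; exact d.odd_r h) (by
    calc g * u * g⁻¹ * (g * y * g⁻¹) * (g * u * g⁻¹)⁻¹ = g * (u * y * u⁻¹) * g⁻¹ := by group
      _ = g * y⁻¹ * g⁻¹ := by rw [hi]
      _ = _ := by group)
  exact hy.ne_one h d (conj_eq_one_iff.1 this)

theorem Setup.card_invol_in (h : Setup S p) :
    Nat.card (H67.involIn (Mn S)) = Nat.card (S : Subgroup G) - 1 := by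
  classical
  haveI := Fintype.ofFinite (S : Subgroup G)
  rw [Nat.card_congr (α := H67.involIn (Mn S)) (β := {s : (S : Subgroup G) // s ≠ 1})
      { toFun := fun t => ⟨⟨t.1, h.invol_mem t.2.2 t.2.1⟩, fun e =>
          ne_one_of_order_two t.2.1 (congrArg Subtype.val e)⟩
        invFun := fun s => ⟨s.1.1, h.invol_of_mem s.1.2 fun e => s.2 (Subtype.ext e),
          le_normalizer s.1.2⟩
        left_inv := fun t => rfl
        right_inv := fun s => rfl },
    Nat.card_eq_fintype_card, Fintype.card_subtype_compl, Fintype.card_subtype_eq,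
    ← Nat.card_eq_fintype_card]

/-- The number of involutions mapping one point to another. -/
theorem Setup.card_moving (h : Setup S p) {a b : G ⧸ Mn S} (hab : a ≠ b) :
    Nat.card {i : G // orderOf i = 2 ∧ i • a = b} = Nat.card (S : Subgroup G) - 1 := by
  obtain ⟨g, rfl⟩ := QuotientGroup.mk_surjective a
  obtain ⟨k, rfl⟩ := QuotientGroup.mk_surjective b
  have hk : g⁻¹ * k ∉ Mn S := fun hm => hab (QuotientGroup.eq.2 hm)
  rw [← h.card_invol_in, ← H67.card_involTo h.se hk]
  refine Nat.card_congr ((MulAut.conj g⁻¹).toEquiv.subtypeEquiv fun i => ?_)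
  rw [MulAction.Quotient.smul_coe, smul_eq_mul, QuotientGroup.eq]
  show _ ↔ orderOf (g⁻¹ * i * g⁻¹⁻¹) = 2 ∧ (g⁻¹ * k)⁻¹ * (g⁻¹ * i * g⁻¹⁻¹) ∈ Mn S
  rw [show orderOf (g⁻¹ * i * g⁻¹⁻¹) = orderOf i from MulEquiv.orderOf_eq (MulAut.conj g⁻¹) i,
    show (g⁻¹ * k)⁻¹ * (g⁻¹ * i * g⁻¹⁻¹) = ((i * g)⁻¹ * k)⁻¹ by group, inv_mem_iff]

theorem Setup.exists_moving_invol (h : Setup S p) {a b : G ⧸ Mn S} (hab : a ≠ b) :
    ∃ i : G, orderOf i = 2 ∧ i • a = b := by
  have h1 := h.card_moving hab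
  have := h.big
  by_contra hcon
  haveI : IsEmpty {i : G // orderOf i = 2 ∧ i • a = b} := ⟨fun i => hcon ⟨i.1, i.2⟩⟩
  rw [Nat.card_of_isEmpty] at h1
  omega

/-- An outside involution inverts the good elements of the two-point stabiliser. -/
theorem Data.inverts (h : Setup S p) (d : Data S p r R) {v y : G} (hv : orderOf v = 2)
    (hvM : v ∉ Mn S) (hyM : y ∈ Mn S) (hyv : v⁻¹ * y * v ∈ Mn S) (hy : Good r y) :
    v * y * v⁻¹ = y⁻¹ := by
  classical
  have hv' : v⁻¹ = v := inv_eq_of_mul_eq_one_right (invol_sq hv)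
  have hyf : Free S y := ⟨hyM, fun s hs hs1 hc => hy.2 s (h.invol_of_mem hs hs1) hc⟩
  have hmem : ∀ c : Inv S v, act S ⟨c.1, c.2.1⟩ ∈ R := fun c => by
    by_cases hc : c.1 = 1
    · rw [show (⟨c.1, c.2.1⟩ : Mn S) = 1 from Subtype.ext hc, map_one]; exact R.one_mem
    · exact ((d.free_iff _).1 (h.inv_free hv hvM c.2.1 c.2.2 hc)).1
  have hin : ∀ c : Inv S v, v⁻¹ * c.1 * v ∈ Mn S := fun c => by
    obtain ⟨c, hc, hci⟩ := c
    show v⁻¹ * c * v ∈ Mn S
    rw [hv'] at hci ⊢
    rw [hci]; exact inv_mem hc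
  have heq : ∀ z w : Mn S, v⁻¹ * (z : G) * v ∈ Mn S → v⁻¹ * (w : G) * v ∈ Mn S →
      act S z = act S w → z = w := fun z w hz hw he => by
    refine mul_inv_eq_one.1 (d.inj v hv hvM _ ?_ (by rw [map_mul, map_inv, he, mul_inv_cancel]))
    show v⁻¹ * ((z : G) * (w : G)⁻¹) * v ∈ Mn S
    rw [show v⁻¹ * ((z : G) * (w : G)⁻¹) * v = (v⁻¹ * z * v) * (v⁻¹ * w * v)⁻¹ by group]
    exact mul_mem hz (inv_mem hw)
  haveI : Finite (Inv S v) := Subtype.finite
  haveI : Finite R := inferInstance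
  let f : Inv S v → R := fun c => ⟨_, hmem c⟩
  have hinj : Function.Injective f := fun c c' hcc =>
    Subtype.ext (congrArg (fun x : Mn S => (x : G))
      (heq ⟨c.1, c.2.1⟩ ⟨c'.1, c'.2.1⟩ (hin c) (hin c') (congrArg Subtype.val hcc)))
  have hbij : Function.Bijective f :=
    (Nat.bijective_iff_injective_and_card f).2 ⟨hinj, by
      rw [h.card_inv hv hvM, d.card_R, d.card_S, Nat.add_sub_cancel]⟩
  obtain ⟨c, hc⟩ := hbij.2 ⟨_, ((d.free_iff ⟨y, hyM⟩).1 hyf).1⟩
  have h1 : (c.1 : G) = y :=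
    congrArg Subtype.val (heq ⟨c.1, c.2.1⟩ ⟨y, hyM⟩ (hin c) hyv (congrArg Subtype.val hc))
  have h2 := c.2.2
  rwa [h1] at h2

/-- Every involution moving one fixed point of a good element to another inverts it. -/
theorem Data.inverts_point (h : Setup S p) (d : Data S p r R) {y i : G} (hy : Good r y)
    (hi : orderOf i = 2) {a : G ⧸ Mn S} (ha : y • a = a) (hb : y • i • a = i • a) (hne : i • a ≠ a) :
    i * y * i⁻¹ = y⁻¹ := by
  obtain ⟨g, rfl⟩ := QuotientGroup.mk_surjective a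
  have hi' : i⁻¹ = i := inv_eq_of_mul_eq_one_right (invol_sq hi)
  rw [H65.smul_coset_eq_iff] at ha
  have hneM : g⁻¹ * i * g ∉ Mn S := fun hm => hne (H65.smul_coset_eq_iff.2 hm)
  rw [MulAction.Quotient.smul_coe, smul_eq_mul, H65.smul_coset_eq_iff, mul_inv_rev, hi'] at hb
  have hy' := hy.conj g⁻¹
  rw [inv_inv] at hy'
  have h1 := d.inverts h (v := g⁻¹ * i * g) (y := g⁻¹ * y * g)
    (by simpa using H67.invol_conj hi g⁻¹) hneM ha (by
      rw [mul_inv_rev, mul_inv_rev, inv_inv, hi']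
      convert hb using 1
      group) hy'
  calc i * y * i⁻¹ = g * ((g⁻¹ * i * g) * (g⁻¹ * y * g) * (g⁻¹ * i * g)⁻¹) * g⁻¹ := by group
    _ = g * (g⁻¹ * y * g)⁻¹ * g⁻¹ := by rw [h1]
    _ = y⁻¹ := by group

theorem Good.no_fixing_inverter (h : Setup S p) (d : Data S p r R) {y i : G} (hy : Good r y)
    (hi : orderOf i = 2) (hinv : i * y * i⁻¹ = y⁻¹) {a : G ⧸ Mn S} (ha : y • a = a) : i • a ≠ a := by
  intro hia
  obtain ⟨g, rfl⟩ := QuotientGroup.mk_surjective a
  rw [H65.smul_coset_eq_iff] at ha hia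
  have := h.not_inverted (h.invol_mem hia (by simpa using H67.invol_conj hi g⁻¹)) ha (by
    rw [show g⁻¹ * y * g = g⁻¹ * y * g⁻¹⁻¹ by rw [inv_inv], (hy.conj g⁻¹).1]; exact d.odd_r h) (by
    calc g⁻¹ * i * g * (g⁻¹ * y * g) * (g⁻¹ * i * g)⁻¹ = g⁻¹ * (i * y * i⁻¹) * g := by group
      _ = g⁻¹ * y⁻¹ * g := by rw [hinv]
      _ = _ := by group)
  exact hy.ne_one h d (by
    rw [show y = g * (g⁻¹ * y * g) * g⁻¹ by group, this]; group)

/-- A good element fixing two points fixes exactly two and is self-centralising. -/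
theorem Good.two_points (h : Setup S p) (d : Data S p r R) {y : G} (hy : Good r y) {a b : G ⧸ Mn S}
    (hab : a ≠ b) (ha : y • a = a) (hb : y • b = b) :
    (∀ x : G ⧸ Mn S, y • x = x → x = a ∨ x = b) ∧ centralizer ({y} : Set G) = zpowers y := by
  obtain ⟨u, hu, hua⟩ := h.exists_moving_invol hab
  have hui : u * y * u⁻¹ = y⁻¹ :=
    d.inverts_point h hy hu ha (by rw [hua]; exact hb) (by rw [hua]; exact hab.symm)
  set C := centralizer ({y} : Set G) with hC
  have hu' : u⁻¹ = u := inv_eq_of_mul_eq_one_right (invol_sq hu)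
  have huN : u ∈ normalizer (C : Set G) := by
    have key : ∀ c ∈ C, u * c * u⁻¹ ∈ C := fun c hc => by
      rw [hC, mem_centralizer_singleton_iff] at hc ⊢
      have h1 := ((show Commute c y from hc).inv_right.map (MulAut.conj u).toMonoidHom).eq
      simp only [MulEquiv.coe_toMonoidHom, MulAut.conj_apply] at h1
      rwa [show u * y⁻¹ * u⁻¹ = y by rw [← conj_inv, hui, inv_inv]] at h1
    refine mem_normalizer_iff.2 fun c => ⟨key c, fun hc => ?_⟩
    have := key _ hc
    rwa [hu', show u * (u * c * u) * u = (u * u) * c * (u * u) by group, invol_sq hu, one_mul,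
      mul_one] at this
  have hinvC : ∀ c ∈ C, u * c * u⁻¹ = c⁻¹ := fun c hc =>
    H93.conj_eq_inv_of_fixedPointFree (invol_sq hu) huN
      (fun k hk hku => hy.fixedPointFree h d hu hui (mem_centralizer_singleton_iff.1 hk) hku.symm) hc
  have hcu : ∀ c ∈ C, orderOf (c * u) = 2 ∧ c * u * y * (c * u)⁻¹ = y⁻¹ := fun c hc => by
    have hci : c * u * y * (c * u)⁻¹ = y⁻¹ := by
      rw [show c * u * y * (c * u)⁻¹ = c * (u * y * u⁻¹) * c⁻¹ by group, hui,
        ((show Commute c y from mem_centralizer_singleton_iff.1 hc).inv_right).eq, mul_inv_cancel_right]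
    refine ⟨orderOf_eq_two ?_ fun he => ?_, hci⟩
    · have := hinvC c hc
      rw [hu'] at this
      rw [show c * u * (c * u) = c * (u * c * u) by group, this, mul_inv_cancel]
    · rw [he, one_mul, inv_one, mul_one] at hci
      exact hy.2 u hu (absurd (orderOf_eq_two (by nth_rw 2 [hci]; exact mul_inv_cancel y) (hy.ne_one h d))
        fun h2 => by
          rw [hy.1] at h2
          exact Nat.not_odd_iff_even.2 even_two (h2 ▸ d.odd_r h))
  have hinvset : ∀ i : G, orderOf i = 2 → i * y * i⁻¹ = y⁻¹ → i * u ∈ C := fun i hi hiy => by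
    rw [hC, mem_centralizer_singleton_iff]
    have h1 : i * u * y * (i * u)⁻¹ = y := by
      rw [show i * u * y * (i * u)⁻¹ = i * (u * y * u⁻¹) * i⁻¹ by group, hui, ← conj_inv, hiy, inv_inv]
    exact mul_inv_eq_iff_eq_mul.1 h1
  have hrep : ∀ i : G, orderOf i = 2 → i * y * i⁻¹ = y⁻¹ → ∃ c ∈ C, i = c * u := fun i hi hiy =>
    ⟨i * u, hinvset i hi hiy, by rw [mul_assoc, invol_sq hu, mul_one]⟩
  have hCfix : ∀ c ∈ C, ∀ x : G ⧸ Mn S, y • x = x → y • c • x = c • x := fun c hc x hx => by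
    rw [← mul_smul, ← mem_centralizer_singleton_iff.1 hc, mul_smul, hx]
  have hiy_fix : ∀ i : G, i * y * i⁻¹ = y⁻¹ → ∀ x : G ⧸ Mn S, y • x = x → y • i • x = i • x := by
    intro i hiy x hx
    have : y * i = i * y⁻¹ := by
      have h2 : i * y⁻¹ * i⁻¹ = y := by rw [← conj_inv, hiy, inv_inv]
      exact (mul_inv_eq_iff_eq_mul.1 h2).symm
    rw [← mul_smul, this, mul_smul, inv_smul_eq_iff.2 hx.symm]
  -- the centraliser fixes all the fixed points
  have hCfixed : ∀ c ∈ C, ∀ x : G ⧸ Mn S, y • x = x → c • x = x := by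
    intro c hc x hx
    by_contra hne
    obtain ⟨i, hi, hix⟩ := h.exists_moving_invol (Ne.symm hne)
    have hiy := d.inverts_point h hy hi hx (by rw [hix]; exact hCfix c hc x hx) (by rw [hix]; exact hne)
    obtain ⟨c', hc', rfl⟩ := hrep i hi hiy
    obtain ⟨h1, h2⟩ := hcu _ (C.mul_mem (C.inv_mem hc) hc')
    refine hy.no_fixing_inverter h d h1 h2 hx ?_
    rw [mul_assoc, mul_smul, hix, inv_smul_smul]
  have hall : ∀ x : G ⧸ Mn S, y • x = x → x = a ∨ x = b := by
    intro x hx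
    by_contra hne
    push Not at hne
    obtain ⟨i, hi, hix⟩ := h.exists_moving_invol (Ne.symm hne.1)
    have hiy := d.inverts_point h hy hi ha (by rw [hix]; exact hx) (by rw [hix]; exact hne.1)
    obtain ⟨c, hc, rfl⟩ := hrep i hi hiy
    rw [mul_smul, hua, hCfixed c hc b hb] at hix
    exact hne.2 hix.symm
  refine ⟨hall, ?_⟩
  -- counting
  let Φ : C → {i : G // orderOf i = 2 ∧ i • a = b} := fun c =>
    ⟨c.1 * u, (hcu c.1 c.2).1, by rw [mul_smul, hua, hCfixed c.1 c.2 b hb]⟩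
  have hΦ : Function.Injective Φ := fun c c' hcc =>
    Subtype.ext (mul_right_cancel (congrArg Subtype.val hcc))
  have hle := Nat.card_le_card_of_injective Φ hΦ
  rw [h.card_moving hab, d.card_S, Nat.add_sub_cancel] at hle
  refine (eq_of_le_of_card_ge (zpowers_le.2 (mem_centralizer_singleton_iff.2 rfl)) ?_).symm
  rw [Nat.card_zpowers, hy.1]
  exact hle

end H59.OneComp
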