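import Cfsg.Agent.H59.OneComp.Mid
import Cfsg.Agent.S3189
import Mathlib.GroupTheory.Transfer

/-!
No simple group with only composite element order `2p`, some element of that order, and Sylow
2-subgroups of order at least eight.
-/

set_option autoImplicit false
set_option linter.style.haveILetI false
set_option linter.unusedSectionVars false

namespace H59.OneComp

open Subgroup

variable {G : Type*} [Group G] [Finite G] {p r : ℕ} {S : Sylow 2 G}
variable {R : Subgroup (MulAut (S : Subgroup G))} {u : G} {Y X : Mn S} {T : (S : Subgroup G)}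

theorem not_27 {a b : ℕ} (ha : ¬ 9 ∣ a) (hb : ¬ 9 ∣ b) : ¬ 27 ∣ a * b := by
  intro h
  by_cases h3 : 3 ∣ a
  · obtain ⟨c, rfl⟩ := h3
    have h1 : 9 ∣ c * b := Nat.dvd_of_mul_dvd_mul_left (k := 3) (by norm_num) (by rwa [← mul_assoc])
    have h2 : ¬ 3 ∣ c := fun hc => ha (by simpa using Nat.mul_dvd_mul_left 3 hc)
    exact hb ((((Nat.prime_three.coprime_iff_not_dvd).2 h2).pow_left 2).dvd_of_dvd_mul_left h1)
  · exact hb (dvd_trans (by norm_num : 9 ∣ 27)
      ((((Nat.prime_three.coprime_iff_not_dvd).2 h3).pow_left 3).dvd_of_dvd_mul_left h))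

/-- With nine not dividing `q + 1` the transfer to a Sylow 3-subgroup is nontrivial. -/
theorem Extra.false_of_not_nine [IsSimpleGroup G] (hna : ¬ IsMulCommutative G)
    (e : Extra S p u X T) (b : Base S r u Y) (h : Setup S p) (d : Data S p r R)
    (h9 : ¬ 9 ∣ Nat.card (S : Subgroup G) + 1) : False := by
  classical
  haveI : Fact (Nat.Prime 2) := ⟨Nat.prime_two⟩
  haveI : Fact (Nat.Prime 3) := ⟨Nat.prime_three⟩
  obtain ⟨hH2, hp3⟩ := e.card_ker_centralizer b h d
  have hxo : orderOf (X : G) = 3 := e.order.trans hp3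
  have hxne : (X : G) ≠ 1 := fun h1 => by rw [h1, orderOf_one] at hxo; norm_num at hxo
  set C := centralizer ({(X : G)} : Set G) with hC
  have hG : ¬ 27 ∣ Nat.card G := by
    rw [← (Mn S).card_mul_index, index_eq_card, (e.card_points b h d).1, mul_comm]
    exact not_27 h9 (e.not_nine b h d)
  have hC9 : 9 ∣ Nat.card C := by
    rw [e.card_centralizer b h d, e.card_fix_eq b h d]
    refine mul_dvd_mul_left 3 (b := 3) ?_
    have h1 : (⟨X, mem_centralizer_singleton_iff.2 rfl⟩ : C) ∈ (Mn S).subgroupOf C := mem_subgroupOf.2 X.2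
    have h2 := Subgroup.orderOf_dvd_natCard _ h1
    rwa [orderOf_mk, hxo] at h2
  -- the Sylow 3-subgroup
  obtain ⟨P₀, hP₀⟩ := Sylow.exists_subgroup_card_pow_prime (G := C) (n := 2) 3 (by simpa using hC9)
  have hPc : Nat.card (P₀.map C.subtype : Subgroup G) = 9 := by
    rw [card_map_of_injective C.subtype_injective, hP₀]; norm_num
  obtain ⟨P, hP⟩ := (IsPGroup.of_card (p := 3) (n := 2) (by rw [hPc]; norm_num) :
    IsPGroup 3 (P₀.map C.subtype : Subgroup G)).exists_le_sylow
  obtain ⟨m, hm⟩ := IsPGroup.iff_card.1 P.isPGroup'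
  have hm2 : m ≤ 2 := by
    by_contra hlt
    exact hG ((pow_dvd_pow 3 (show 3 ≤ m by omega)).trans (hm ▸ card_subgroup_dvd_card _))
  have hPeq : (P₀.map C.subtype : Subgroup G) = P := eq_of_le_of_card_ge hP (by
    rw [hm, hPc]; exact Nat.pow_le_pow_right (by norm_num) hm2)
  have hP9 : Nat.card (P : Subgroup G) = 9 := hPeq ▸ hPc
  have hPC : (P : Subgroup G) ≤ C := hPeq ▸ map_subtype_le _
  haveI hPab : IsMulCommutative (P : Subgroup G) :=
    IsPGroup.isMulCommutative_of_card_eq_prime_sq (p := 3) (by rw [hP9]; norm_num)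
  have hcomm : ∀ a ∈ (P : Subgroup G), ∀ c ∈ (P : Subgroup G), Commute a c := fun a ha c hc =>
    congrArg Subtype.val (hPab.is_comm.comm (⟨a, ha⟩ : (P : Subgroup G)) ⟨c, hc⟩)
  have hxP : (X : G) ∈ (P : Subgroup G) := by
    have hX3 : IsPGroup 3 (zpowers (X : G)) :=
      IsPGroup.of_card (n := 1) (by rw [Nat.card_zpowers, hxo, pow_one])
    have hXN : zpowers (X : G) ≤ normalizer ((P : Subgroup G) : Set G) :=
      zpowers_le.2 (centralizer_le_normalizer _ (mem_centralizer_iff.2 fun c hc =>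
        mem_centralizer_singleton_iff.1 (hPC hc)))
    exact P.is_maximal' (hX3.to_sup_of_normal_right' P.isPGroup' hXN) le_sup_right ▸
      mem_sup_left (mem_zpowers _)
  set N := normalizer ((P : Subgroup G) : Set G) with hN
  -- `T` normalises `P`
  have hCcard : Nat.card C ∣ 18 := by
    rw [e.card_centralizer b h d, e.card_fix_eq b h d]
    refine mul_dvd_mul_left 3 (b := Nat.card ((Mn S).subgroupOf C)) (c := 6) ?_
    set M₀ := (Mn S).subgroupOf C
    have hpr : ∀ q : ℕ, q.Prime → q ∣ Nat.card M₀ → q = 2 ∨ q = 3 := fun q hq hqd => hp3 ▸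
      h.twoP.primes_centralizer (Or.inr e.order) q hq (hqd.trans (card_subgroup_dvd_card _))
    have h9' : ¬ 3 ^ 2 ∣ Nat.card M₀ := fun hd => e.not_nine b h d (hd.trans (by
      rw [← card_map_of_injective (K := M₀) C.subtype_injective]
      refine card_dvd_of_le ?_
      rintro _ ⟨g, hg, rfl⟩
      exact hg))
    have h4 : ¬ 2 ^ 2 ∣ Nat.card M₀ := by
      intro hd
      obtain ⟨W, hW⟩ := Sylow.exists_subgroup_card_pow_prime 2 hd
      have hmem : ∀ w : W, w ≠ 1 → (((w : M₀) : C) : G) = T := fun w hw => by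
        obtain ⟨j, hj⟩ := IsPGroup.iff_orderOf.1 (IsPGroup.of_card hW) w
        rw [← orderOf_coe, ← orderOf_coe, ← orderOf_coe] at hj
        exact e.fix_eq b h d (mem_sylow_of_normalizes S (mem_subgroupOf.1 (w : M₀).2) hj)
          (fun he => hw (Subtype.ext (Subtype.ext (Subtype.ext he))))
          (mem_centralizer_singleton_iff.1 ((w : M₀) : C).2).symm
      have hle := Nat.card_le_card_of_injective (fun w : W => decide (w = 1)) fun k k' hkk => by
        simp only [decide_eq_decide] at hkk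
        by_cases hk : k = 1
        · rw [hk, hkk.1 hk]
        · exact Subtype.ext (Subtype.ext (Subtype.ext ((hmem k hk).trans
            (hmem k' fun he => hk (hkk.2 he)).symm)))
      rw [hW] at hle
      simp at hle
    refine Nat.dvd_iff_prime_pow_dvd_dvd _ _ |>.2 fun q k hq hqd => ?_
    rcases k with _ | k
    · simp
    rcases hpr q hq ((dvd_pow_self q k.succ_ne_zero).trans hqd) with rfl | rfl
    · have : k = 0 := by_contra fun hk => h4 ((pow_dvd_pow 2 (by omega)).trans hqd)
      subst this; norm_num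
    · have : k = 0 := by_contra fun hk => h9' ((pow_dvd_pow 3 (by omega)).trans hqd)
      subst this; norm_num
  have hCN : C ≤ N := by
    set P' := (P : Subgroup G).subgroupOf C
    have hi : P'.index ≤ 2 := by
      have h1 := P'.card_mul_index
      rw [Nat.card_congr (subgroupOfEquivOfLe hPC).toEquiv, hP9] at h1
      have h2 := Nat.le_of_dvd (by norm_num) hCcard
      omega
    haveI : P'.Normal := by
      rcases Nat.lt_or_ge P'.index 2 with h1 | h1
      · have h0 : P'.index ≠ 0 := index_ne_zero_of_finite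
        rw [index_eq_one.1 (show P'.index = 1 by omega)]; infer_instance
      · exact normal_of_index_eq_two (by omega)
    refine fun c hc => mem_normalizer_iff.2 fun a => ⟨fun ha => ?_, fun ha => ?_⟩
    · exact (inferInstance : P'.Normal).conj_mem ⟨a, hPC ha⟩ ha ⟨c, hc⟩
    · have := (inferInstance : P'.Normal).conj_mem ⟨c * a * c⁻¹, hPC ha⟩ ha ⟨c⁻¹, C.inv_mem hc⟩
      have e1 : c⁻¹ * (c * a * c⁻¹) * c = a := by group
      simpa [P', mem_subgroupOf, e1] using this
  have hT2 : orderOf (T : G) = 2 := h.invol_of_mem T.2 fun h1 => e.ne_one (Subtype.ext h1)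
  have hTN : (T : G) ∈ N := hCN (mem_centralizer_singleton_iff.2 e.comm.symm.eq)
  -- the centraliser of `T` in `P`
  have hPT : ∀ a ∈ (P : Subgroup G), Commute a (T : G) → a ∈ zpowers (X : G) := by
    intro a ha hc
    set V := (P : Subgroup G) ⊓ centralizer ({(T : G)} : Set G)
    have hVM : V ≤ Mn S := inf_le_right.trans (h.cent _ T.2 fun h1 => e.ne_one (Subtype.ext h1))
    obtain ⟨j, -, hj⟩ := (Nat.dvd_prime_pow Nat.prime_three).1
      (show Nat.card V ∣ 3 ^ 2 by rw [show 3 ^ 2 = 9 by norm_num, ← hP9]; exact card_dvd_of_le inf_le_left)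
    have hj1 : j ≤ 1 := by
      by_contra hlt
      exact e.not_nine b h d ((pow_dvd_pow 3 (show 2 ≤ j by omega)).trans (hj ▸ card_dvd_of_le hVM))
    have heq : zpowers (X : G) = V := eq_of_le_of_card_ge
      (zpowers_le.2 ⟨hxP, mem_centralizer_singleton_iff.2 e.comm.eq⟩) (by
        rw [Nat.card_zpowers, hxo, hj]; exact Nat.pow_le_pow_right (by norm_num) hj1)
    rw [heq]
    exact ⟨ha, mem_centralizer_singleton_iff.2 hc.eq⟩
  -- no primes above three
  have hprimes : ∀ g ∈ N, Odd (orderOf g) → g ≠ 1 → orderOf g = 3 := by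
    intro g hg ho hg1
    have hl := h.twoP.odd_prime g ho hg1
    by_contra hl3
    set l := orderOf g with hldef
    have hl5 : 5 ≤ l := by
      have := hl.two_le
      rcases ho with ⟨k, hk⟩
      omega
    have hconj : ∀ i : ℕ, g ^ i * X * (g ^ i)⁻¹ ∈ (P : Subgroup G) := fun i =>
      (mem_normalizer_iff.1 (pow_mem hg i) _).1 hxP
    -- a power of `g` fixing or inverting `X` is trivial
    have hfix : ∀ y ∈ zpowers g, (y * X * y⁻¹ = X ∨ y * X * y⁻¹ = (X : G)⁻¹) → y = 1 := by
      intro y hy hcase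
      by_contra hy1
      have hyo : orderOf y = l := ((Nat.dvd_prime hl).1 (orderOf_dvd_of_mem_zpowers hy)).resolve_left
        fun h1 => hy1 (orderOf_eq_one_iff.1 h1)
      have key : ∀ z ∈ zpowers g, z ≠ 1 → ¬ z * X * z⁻¹ = X := by
        intro z hz hz1 hzx
        have hzo : orderOf z = l := ((Nat.dvd_prime hl).1 (orderOf_dvd_of_mem_zpowers hz)).resolve_left
          fun h1 => hz1 (orderOf_eq_one_iff.1 h1)
        rcases h.twoP.eq_of_commute_p e.order (mul_inv_eq_iff_eq_mul.1 hzx) (by rw [hzo]; exact hl)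
          with h1 | h1
        · rw [hzo] at h1; omega
        · rw [hzo, hp3] at h1; exact hl3 h1
      rcases hcase with h1 | h1
      · exact key y hy hy1 h1
      · refine key (y * y) ((zpowers g).mul_mem hy hy) (fun h2 => ?_) ?_
        · have := orderOf_eq_two h2 hy1
          rw [hyo] at this; omega
        · rw [show y * y * X * (y * y)⁻¹ = y * (y * X * y⁻¹) * y⁻¹ by group, h1, ← conj_inv, h1, inv_inv]
    have hne : ∀ i : ℕ, (⟨_, hconj i⟩ : (P : Subgroup G)) ≠ 1 := fun i h1 =>
      hxne (conj_eq_one_iff.1 (congrArg Subtype.val h1))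
    let Φ : Fin l ⊕ Fin l → {a : (P : Subgroup G) // a ≠ 1} := fun i =>
      Sum.elim (fun i : Fin l => ⟨⟨_, hconj i⟩, hne i⟩)
        (fun i : Fin l => ⟨⟨_, hconj i⟩⁻¹, fun h1 => hne i (inv_eq_one.1 h1)⟩) i
    have hrel : ∀ i j : Fin l, (g ^ (i : ℕ) * X * (g ^ (i : ℕ))⁻¹ = g ^ (j : ℕ) * X * (g ^ (j : ℕ))⁻¹ ∨
        g ^ (i : ℕ) * X * (g ^ (i : ℕ))⁻¹ = (g ^ (j : ℕ) * X * (g ^ (j : ℕ))⁻¹)⁻¹) → i = j := by
      intro i j hij
      have h1 := hfix ((g ^ (j : ℕ))⁻¹ * g ^ (i : ℕ))
        ((zpowers g).mul_mem ((zpowers g).inv_mem (npow_mem_zpowers g _)) (npow_mem_zpowers g _)) (by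
          have e1 : (g ^ (j : ℕ))⁻¹ * g ^ (i : ℕ) * X * ((g ^ (j : ℕ))⁻¹ * g ^ (i : ℕ))⁻¹ =
              (g ^ (j : ℕ))⁻¹ * (g ^ (i : ℕ) * X * (g ^ (i : ℕ))⁻¹) * g ^ (j : ℕ) := by group
          rcases hij with h2 | h2
          · left; rw [e1, h2]; group
          · right; rw [e1, h2]; group)
      exact Fin.ext (pow_injOn_Iio_orderOf i.2 j.2 (inv_mul_eq_one.1 h1).symm)
    have hΦ : Function.Injective Φ := by
      intro i j hij
      have hv : ((Φ i).1 : G) = ((Φ j).1 : G) := congrArg (fun a => ((a.1 : (P : Subgroup G)) : G)) hij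
      rcases i with i | i <;> rcases j with j | j <;>
        simp only [Φ, Sum.elim_inl, Sum.elim_inr, Subgroup.coe_inv] at hv
      · rw [hrel i j (Or.inl hv)]
      · obtain rfl := hrel i j (Or.inr hv)
        exfalso
        have h2 := orderOf_eq_two (mul_eq_one_iff_eq_inv.2 hv) (fun h1 => hxne (conj_eq_one_iff.1 h1))
        rw [show g ^ (i : ℕ) * X * (g ^ (i : ℕ))⁻¹ = MulAut.conj (g ^ (i : ℕ)) (X : G) from rfl,
          MulEquiv.orderOf_eq, hxo] at h2
        omega
      · obtain rfl := hrel j i (Or.inr hv.symm)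
        exfalso
        have h2 := orderOf_eq_two (mul_eq_one_iff_eq_inv.2 hv.symm) (fun h1 => hxne (conj_eq_one_iff.1 h1))
        rw [show g ^ (j : ℕ) * X * (g ^ (j : ℕ))⁻¹ = MulAut.conj (g ^ (j : ℕ)) (X : G) from rfl,
          MulEquiv.orderOf_eq, hxo] at h2
        omega
      · rw [hrel i j (Or.inl (inv_injective hv))]
    have hcard := Nat.card_le_card_of_injective Φ hΦ
    haveI := Fintype.ofFinite (P : Subgroup G)
    rw [Nat.card_sum, Nat.card_eq_fintype_card (α := {a : (P : Subgroup G) // a ≠ 1}),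
      Fintype.card_subtype_compl, Fintype.card_subtype_eq, ← Nat.card_eq_fintype_card, hP9,
      Nat.card_eq_fintype_card, Fintype.card_fin] at hcard
    omega
  have hoddP : ∀ g ∈ N, Odd (orderOf g) → g ∈ (P : Subgroup G) := by
    intro g hg ho
    by_cases hg1 : g = 1
    · rw [hg1]; exact one_mem _
    have hg3 : IsPGroup 3 (zpowers g) :=
      IsPGroup.of_card (n := 1) (by rw [Nat.card_zpowers, hprimes g hg ho hg1, pow_one])
    exact P.is_maximal' (hg3.to_sup_of_normal_right' P.isPGroup' (zpowers_le.2 hg)) le_sup_right ▸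
      mem_sup_left (mem_zpowers _)
  have hsqP : ∀ g ∈ N, g * g ∈ (P : Subgroup G) := by
    intro g hg
    obtain ⟨a, c, rfl, ha, hc, ⟨k, hk⟩, ho⟩ := exists_two_odd g
    have hac : Commute a c := by
      generalize a * c = n at ha hc
      obtain ⟨i, rfl⟩ := ha; obtain ⟨j, rfl⟩ := hc
      exact (Commute.refl n).zpow_zpow i j
    rw [show a * c * (a * c) = (a * a) * (c * c) by
      rw [mul_assoc, ← mul_assoc c, ← hac.eq]; group, h.twoP.sq_of_two_pow hk, one_mul]
    exact mul_mem (hoddP c (zpowers_le.2 hg hc) ho) (hoddP c (zpowers_le.2 hg hc) ho)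
  -- the normaliser centralises `X`
  have hcent : ∀ g ∈ N, g * X * g⁻¹ = X := by
    intro g hg
    obtain ⟨a, c, hgac, ha, hc, ⟨k, hk⟩, ho⟩ := exists_two_odd g
    have haN := zpowers_le.2 hg ha
    have hcx : c * X * c⁻¹ = X := by
      rw [(hcomm c (hoddP c (zpowers_le.2 hg hc) ho) _ hxP).eq, mul_inv_cancel_right]
    suffices hax : a * X * a⁻¹ = X by
      rw [hgac, show a * c * X * (a * c)⁻¹ = a * (c * X * c⁻¹) * a⁻¹ by group, hcx, hax]
    by_cases ha1 : a = 1
    · rw [ha1]; simp
    have ha2 := orderOf_eq_two (h.twoP.sq_of_two_pow hk) ha1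
    have haP : a * X * a⁻¹ ∈ (P : Subgroup G) := (mem_normalizer_iff.1 haN _).1 hxP
    set π := a * T * a⁻¹ * (T : G)⁻¹ with hπ
    have hπP : π ∈ (P : Subgroup G) := by
      have := hsqP (a * T) (mul_mem haN hTN)
      rwa [hπ, inv_eq_of_mul_eq_one_right (invol_sq ha2), inv_eq_of_mul_eq_one_right (invol_sq hT2),
        mul_assoc (a * T)]
    have hcT : Commute (a * X * a⁻¹) (T : G) := by
      have h1 : Commute (a * X * a⁻¹) (a * T * a⁻¹) := e.comm.map (MulAut.conj a).toMonoidHom
      have h2 := ((hcomm _ haP _ hπP).inv_right).mul_right h1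
      rwa [show π⁻¹ * (a * T * a⁻¹) = T by rw [hπ]; group] at h2
    have hz := hPT _ haP hcT
    rw [← mem_powers_iff_mem_zpowers, mem_powers_iff_mem_range_orderOf, hxo] at hz
    simp only [Finset.mem_image, Finset.mem_range] at hz
    obtain ⟨i, hi, hiX⟩ := hz
    interval_cases i
    · rw [pow_zero] at hiX
      exact absurd (conj_eq_one_iff.1 hiX.symm) hxne
    · rw [pow_one] at hiX; exact hiX.symm
    · exfalso
      have hinv : a * X * a⁻¹ = (X : G)⁻¹ := by
        rw [← hiX]
        exact eq_inv_of_mul_eq_one_left (by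
          rw [← pow_succ, show (2 + 1 : ℕ) = orderOf (X : G) by rw [hxo], pow_orderOf_eq_one])
      -- `a` fixes one of the three fixed points
      have hperm : ∀ z : Fix X, (X : G) • a • z.1 = a • z.1 := fun z => by
        rw [← mul_smul, show (X : G) * a = a * (a⁻¹ * X * a) by group, mul_smul]
        congr 1
        rw [inv_eq_of_mul_eq_one_right (invol_sq ha2)]
        have h1 : a * X * a = (X : G)⁻¹ := by
          rwa [inv_eq_of_mul_eq_one_right (invol_sq ha2)] at hinv
        rw [h1, inv_smul_eq_iff]; exact z.2.symm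
      let σ : Equiv.Perm (Fix X) :=
        { toFun := fun z => ⟨a • z.1, hperm z⟩
          invFun := fun z => ⟨a • z.1, hperm z⟩
          left_inv := fun z => Subtype.ext (by simp [← mul_smul, invol_sq ha2])
          right_inv := fun z => Subtype.ext (by simp [← mul_smul, invol_sq ha2]) }
      haveI : Finite (Fix X) := Subtype.finite
      haveI := Fintype.ofFinite (Fix X)
      have hσ : σ ^ 2 ^ 1 = 1 := Equiv.ext fun z => Subtype.ext (by
        rw [pow_one, sq]
        show a • a • z.1 = z.1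
        rw [← mul_smul, invol_sq ha2, one_smul])
      obtain ⟨⟨z, hzx⟩, hz⟩ := Equiv.Perm.exists_fixed_point_of_prime (p := 2) (n := 1)
        (by rw [← Nat.card_eq_fintype_card, e.card_fix_eq b h d]; norm_num) hσ
      have hza : a • z = z := congrArg Subtype.val hz
      obtain ⟨k, rfl⟩ := QuotientGroup.mk_surjective z
      rw [H65.smul_coset_eq_iff] at hza hzx
      have := h.not_inverted (h.invol_mem hza (by simpa using H67.invol_conj ha2 k⁻¹)) hzx (by
        rw [show k⁻¹ * X * k = MulAut.conj k⁻¹ (X : G) by simp, MulEquiv.orderOf_eq, hxo]; decide) (by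
        calc k⁻¹ * a * k * (k⁻¹ * X * k) * (k⁻¹ * a * k)⁻¹ = k⁻¹ * (a * X * a⁻¹) * k := by group
          _ = k⁻¹ * (X : G)⁻¹ * k := by rw [hinv]
          _ = _ := by group)
      exact hxne (by rw [show (X : G) = k * (k⁻¹ * X * k) * k⁻¹ by group, this]; group)
  -- transfer
  open scoped IsMulCommutative in
  let τ : G →* (P : Subgroup G) := MonoidHom.transfer (MonoidHom.id (P : Subgroup G))
  have key : ∀ (k : ℕ) (g₀ : G), g₀⁻¹ * (X : G) ^ k * g₀ ∈ (P : Subgroup G) →
      g₀⁻¹ * (X : G) ^ k * g₀ = (X : G) ^ k := by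
    intro k g₀ hk
    obtain ⟨n, hn, hne⟩ := H5.control_of_commutative P _ (pow_mem hxP k) g₀⁻¹ (by rwa [inv_inv])
    rw [inv_inv] at hne
    rw [← hne, ← conj_pow, hcent n hn]
  have hτ : τ (X : G) = ⟨(X : G) ^ (P : Subgroup G).index,
      MonoidHom.transfer_eq_pow_aux (X : G) key⟩ := by
    open scoped IsMulCommutative in
    exact MonoidHom.transfer_eq_pow (MonoidHom.id (P : Subgroup G)) (X : G) key
  have hker : τ.ker = ⊤ := (τ.normal_ker.eq_bot_or_eq_top).resolve_left fun hb =>
    hna ⟨⟨fun a c => (MonoidHom.ker_eq_bot_iff τ).1 hb (by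
      rw [map_mul, map_mul]; exact hPab.is_comm.comm _ _)⟩⟩
  have h1 : (X : G) ^ (P : Subgroup G).index = 1 := by
    have h2 : τ (X : G) = 1 := MonoidHom.mem_ker.1 (by rw [hker]; exact mem_top _)
    rw [hτ] at h2
    exact congrArg Subtype.val h2
  have h3 := orderOf_dvd_of_pow_eq_one h1
  rw [hxo] at h3
  exact P.not_dvd_index h3

/-- No standing configuration occurs in a simple group. -/
theorem Setup.false [IsSimpleGroup G] (hna : ¬ IsMulCommutative G) (h : Setup S p)
    (hx : ∃ t x : G, orderOf t = 2 ∧ orderOf x = p ∧ Commute x t) : False := by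
  classical
  haveI : Fact (Nat.Prime 2) := ⟨Nat.prime_two⟩
  obtain ⟨r, R, d⟩ : ∃ r R, Data S p r R := by
    by_cases hall : ∀ g : G, Free S g → orderOf g = p
    · exact ⟨p, h.data_of_all hall⟩
    · push Not at hall
      obtain ⟨y, hy, hyp⟩ := hall
      exact ⟨_, h.data_of_free hy hyp⟩
  obtain ⟨u, Y, b⟩ := h.exists_base d
  by_cases hbig : ∀ z : Mn S, u⁻¹ * z * u ∈ Mn S → act S z ∈ R
  · exact b.false_of_small h d hx hbig
  obtain ⟨X, T, e⟩ := b.exists_extra h d hbig
  obtain ⟨k, hk⟩ := IsPGroup.iff_card.1 S.isPGroup'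
  by_cases h9 : 9 ∣ Nat.card (S : Subgroup G) + 1
  swap
  · exact e.false_of_not_nine hna b h d h9
  -- then `q = 8`
  have hk3 : 3 ∣ k := by
    rw [hk] at h9
    have h1 : 2 ^ k % 9 = 2 ^ (k % 6) % 9 := by
      conv_lhs => rw [← Nat.div_add_mod k 6, pow_add, pow_mul, Nat.mul_mod, Nat.pow_mod]
      simp
    have h2 : k % 6 < 6 := Nat.mod_lt _ (by norm_num)
    interval_cases hk6 : k % 6 <;> simp_all <;> omega
  have hkp : k.Prime := by
    have h1 : (2 ^ k - 1).Prime := by
      have h0 := d.card_S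
      rw [hk] at h0
      rw [show 2 ^ k - 1 = r by omega]
      exact d.prime
    refine ((Nat.prime_of_pow_sub_one_prime ?_) h1).2
    intro hk1
    have := h.big
    rw [hk, hk1] at this
    omega
  have hk3' : k = 3 := ((Nat.prime_dvd_prime_iff_eq Nat.prime_three hkp).1 hk3).symm
  have h8 : Nat.card (S : Subgroup G) = 8 := by rw [hk, hk3']; norm_num
  have h7 := Cfsg.Agent.S3189.result hna S (h.twoP.elemAb_of_isPGroup S.isPGroup') h8
    fun t ht => h.twoP.solvable_centralizer (Or.inl ht)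
  rw [Subgroup.relIndex, ← Subgroup.normalizerMonoidHom_ker, index_ker] at h7
  have hp3 := (e.card_ker_centralizer b h d).2
  have h3 : 3 ∣ Nat.card (act S).range := by
    have h1 : orderOf (act S X) = 3 := by
      refine ((Nat.dvd_prime Nat.prime_three).1 ?_).resolve_left fun h1 =>
        e.act_ne (orderOf_eq_one_iff.1 h1)
      rw [← hp3, ← e.order, orderOf_coe]
      exact orderOf_map_dvd _ X
    have h2 := Subgroup.orderOf_dvd_natCard (act S).range ⟨X, rfl⟩
    rwa [h1] at h2
  rw [show Nat.card (act S).range = 7 from h7] at h3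
  norm_num at h3

/-- A simple group with only composite element order `2p`, having such elements, has Sylow
2-subgroups of order at most four. -/
theorem TwoP.false_of_big [IsSimpleGroup G] (h : TwoP G p) (hna : ¬ IsMulCommutative G)
    (S : Sylow 2 G) (hS8 : 8 ≤ Nat.card (S : Subgroup G)) {g : G} (hg : orderOf g = 2 * p) :
    False := by
  obtain ⟨hC, hse⟩ := se_normalizer hna h S hS8
  have hpos := h.prime.pos
  refine (Setup.mk (S := S) h hS8 hC hse).false hna ⟨g ^ p, g ^ 2, ?_, ?_, (Commute.refl g).pow_pow _ _⟩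
  · rw [orderOf_pow' g h.prime.ne_zero, hg, Nat.gcd_eq_right (Dvd.intro_left 2 rfl),
      Nat.mul_div_cancel _ hpos]
  · rw [orderOf_pow' g two_ne_zero, hg, Nat.gcd_eq_right (Dvd.intro p rfl),
      Nat.mul_div_cancel_left _ two_pos]

end H59.OneComp
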