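import Cfsg.Agent.H59.OneComp.Rank
import Cfsg.Agent.H67.SECount
import Cfsg.Agent.H16.OddOrder
import Cfsg.Agent.H93.Basic

/-!
Strongly embedded Sylow normaliser in groups with only composite order `2p`: free elements of the
normaliser and the elements inverted by an outside involution.
-/

set_option autoImplicit false
set_option linter.style.haveILetI false
set_option linter.unusedSectionVars false

namespace H59.OneComp

open Subgroup

variable {G : Type*} [Group G] [Finite G] {p : ℕ}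

/-- The normaliser of a Sylow 2-subgroup. -/
abbrev Mn (S : Sylow 2 G) : Subgroup G := normalizer ((S : Subgroup G) : Set G)

/-- An element of the normaliser commuting with no involution of the Sylow 2-subgroup. -/
def Free (S : Sylow 2 G) (g : G) : Prop :=
  g ∈ Mn S ∧ ∀ s ∈ (S : Subgroup G), s ≠ 1 → ¬ Commute g s

/-- The standing hypothesis. -/
structure Setup (S : Sylow 2 G) (p : ℕ) : Prop where
  twoP : TwoP G p
  big : 8 ≤ Nat.card (S : Subgroup G)
  cent : ∀ u ∈ (S : Subgroup G), u ≠ 1 → centralizer ({u} : Set G) ≤ Mn S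
  se : Cfsg.IsStronglyEmbedded (Mn S)

variable {S : Sylow 2 G}

theorem Setup.exists_ne_one (h : Setup S p) : ∃ s ∈ (S : Subgroup G), s ≠ 1 := by
  have : (S : Subgroup G) ≠ ⊥ := fun hb => by
    have := h.big; rw [hb, card_bot] at this; omega
  exact exists_ne_one_of_bot_ne this
where
  exists_ne_one_of_bot_ne {H : Subgroup G} (hH : H ≠ ⊥) : ∃ s ∈ H, s ≠ 1 :=
    (Subgroup.bot_or_exists_ne_one H).resolve_left hH

theorem Setup.invol_mem (h : Setup S p) {t : G} (ht : t ∈ Mn S) (ht2 : orderOf t = 2) :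
    t ∈ (S : Subgroup G) :=
  mem_sylow_of_normalizes S ht (k := 1) (by rw [ht2, pow_one])

theorem Setup.invol_of_mem (h : Setup S p) {s : G} (hs : s ∈ (S : Subgroup G)) (hs1 : s ≠ 1) :
    orderOf s = 2 :=
  orderOf_eq_two (h.twoP.sq_of_isPGroup S.isPGroup' s hs) hs1

theorem Setup.commute_mem (h : Setup S p) {a b : G} (ha : a ∈ (S : Subgroup G))
    (hb : b ∈ (S : Subgroup G)) : Commute a b :=
  congrArg Subtype.val
    ((h.twoP.comm_of_isPGroup S.isPGroup').is_comm.comm (⟨a, ha⟩ : (S : Subgroup G)) ⟨b, hb⟩)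

theorem Setup.free_ne_one (h : Setup S p) {g : G} (hg : Free S g) : g ≠ 1 := by
  rintro rfl
  obtain ⟨s, hs, hs1⟩ := h.exists_ne_one
  exact hg.2 s hs hs1 (Commute.one_left s)

theorem Setup.free_odd (h : Setup S p) {g : G} (hg : Free S g) : Odd (orderOf g) := by
  by_contra hne
  obtain ⟨m, hm⟩ := Nat.not_odd_iff_even.1 hne
  have hpos := orderOf_pos g
  have ho : orderOf (g ^ m) = 2 := by
    rw [orderOf_pow' g (by omega), hm, Nat.gcd_eq_right (Dvd.intro_left 2 (by omega))]
    exact Nat.div_eq_of_eq_mul_left (by omega) (by omega)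
  exact hg.2 (g ^ m) (h.invol_mem (pow_mem hg.1 m) ho) (ne_one_of_order_two ho)
    ((Commute.refl g).pow_right m)

theorem Setup.free_prime (h : Setup S p) {g : G} (hg : Free S g) : (orderOf g).Prime :=
  h.twoP.odd_prime g (h.free_odd hg) (h.free_ne_one hg)

theorem Setup.eq_p_of_not_free (h : Setup S p) {g : G} (hg : g ∈ Mn S) (hn : ¬ Free S g)
    (ho : Odd (orderOf g)) (hg1 : g ≠ 1) : orderOf g = p := by
  simp only [Free, hg, true_and, not_forall, not_not] at hn
  obtain ⟨s, hs, hs1, hc⟩ := hn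
  exact h.twoP.eq_p_of_commute (h.invol_of_mem hs hs1) hc ho hg1

theorem Setup.free_of_order (h : Setup S p) {g : G} (hg : g ∈ Mn S) (ho : (orderOf g).Prime)
    (h2 : orderOf g ≠ 2) (hp : orderOf g ≠ p) : Free S g := by
  by_contra hn
  exact hp (h.eq_p_of_not_free hg hn (ho.odd_of_ne_two h2) fun h1 => ho.ne_one (by
    rw [h1, orderOf_one]))

theorem Setup.solvable_Mn (h : Setup S p) : Group.IsSolvable (Mn S) := by
  haveI : Fact (Nat.Prime 2) := ⟨Nat.prime_two⟩
  set T := ((S : Subgroup G).subgroupOf (Mn S))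
  haveI : T.Normal := Subgroup.normal_in_normalizer
  haveI : Group.IsSolvable T := by
    haveI := h.twoP.comm_of_isPGroup S.isPGroup'
    exact Group.isSolvable_of_comm fun a b => Subtype.ext (Subtype.ext
      (h.commute_mem a.2 b.2).eq)
  have hodd : Odd (Nat.card (Mn S ⧸ T)) := by
    rw [← Subgroup.index_eq_card]
    exact Nat.odd_iff.2 (Nat.two_dvd_ne_zero.1 (not_dvd_index_sylow_subgroupOf S))
  haveI := H16.FT.oddOrder hodd
  exact Group.isSolvable_of_ker_le_range T.subtype (QuotientGroup.mk' T) (by simp)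
where
  not_dvd_index_sylow_subgroupOf (S : Sylow 2 G) :
      ¬ 2 ∣ ((S : Subgroup G).subgroupOf (Mn S)).index := by
    haveI : Fact (Nat.Prime 2) := ⟨Nat.prime_two⟩
    exact fun hd => S.not_dvd_index (hd.trans (relIndex_dvd_index_of_le le_normalizer))

/-- A `p`-element centralising the Sylow 2-subgroup has its centraliser in the normaliser. -/
theorem Setup.centralizer_le (h : Setup S p) {z : G} (hz : orderOf z = p)
    (hzS : ∀ s ∈ (S : Subgroup G), Commute z s) : centralizer ({z} : Set G) ≤ Mn S := by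
  haveI : Fact (Nat.Prime 2) := ⟨Nat.prime_two⟩
  haveI := Fact.mk h.twoP.prime
  haveI := h.twoP.solvable_centralizer (Or.inr hz)
  set C := centralizer ({z} : Set G) with hC
  have hle : (S : Subgroup G) ≤ C := fun s hs => mem_centralizer_singleton_iff.2 (hzS s hs).symm.eq
  have hO : Cfsg.centralizerPPrimeCore 2 z ≤ Mn S := by
    set O := Cfsg.centralizerPPrimeCore 2 z
    have hO2 : ¬ 2 ∣ Nat.card O := by
      show ¬ 2 ∣ Nat.card ((Cfsg.pPrimeCore 2 C).map C.subtype : Subgroup G)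
      rw [card_map_of_injective C.subtype_injective]
      exact H84.not_dvd_card_pPrimeCore 2
    have hCO : C ≤ normalizer (O : Set G) :=
      le_normalizer.trans (H1.le_normalizer_map_subtype_of_characteristic le_rfl _)
    refine H8.generation_elements (h.twoP.elemAb_of_isPGroup S.isPGroup')
      (by have := h.big; norm_num; omega) (hle.trans hCO) hO2 fun a ha ha1 => ?_
    exact inf_le_right.trans (h.cent a ha ha1)
  intro c hc
  set T := S.subtype hle
  have hT : IsMulCommutative (T : Subgroup C) := ⟨⟨fun a b =>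
    Subtype.ext (Subtype.ext (h.commute_mem (a := ((a : C) : G)) a.2 (b := ((b : C) : G)) b.2).eq)⟩⟩
  haveI : (Cfsg.pPrimeCore 2 C).Normal := H1.pPrimeCore_normal' 2 _
  have htop := (normalizer_sup_core T hT).ge (mem_top (⟨c, hc⟩ : C))
  obtain ⟨n, hn, o, ho, hno⟩ := mem_sup_of_normal_right.1 htop
  replace hn : n ∈ normalizer ((T : Subgroup C) : Set C) := hn
  have hnN : (n : G) ∈ Mn S := by
    rw [mem_normalizer_iff] at hn ⊢
    intro x
    constructor
    · exact fun hx => (hn ⟨x, hle hx⟩).1 hx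
    · intro hx
      have hxC : x ∈ C := by
        have := mul_mem (mul_mem (inv_mem n.2) (hle hx)) n.2
        simpa [mul_assoc] using this
      exact (hn ⟨x, hxC⟩).2 hx
  rw [show c = (n : G) * o from (congrArg Subtype.val hno).symm]
  exact mul_mem hnN (hO ⟨o, ho, rfl⟩)

/-- The elements of the normaliser inverted by the outside involution `u`. -/
def Inv (S : Sylow 2 G) (u : G) : Type _ := {d : G // d ∈ Mn S ∧ u * d * u⁻¹ = d⁻¹}

theorem Setup.card_inv (h : Setup S p) {u : G} (hu : orderOf u = 2) (huM : u ∉ Mn S) :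
    Nat.card (Inv S u) = Nat.card (S : Subgroup G) - 1 := by
  classical
  have hu' : u⁻¹ = u := inv_eq_of_mul_eq_one_right (invol_sq hu)
  have h1 : Nat.card (H67.involTo (Mn S) u) = Nat.card (H67.involIn (Mn S)) :=
    H67.card_involTo h.se huM
  have h2 : Nat.card (H67.involIn (Mn S)) = Nat.card {s : (S : Subgroup G) // s ≠ 1} :=
    Nat.card_congr
      { toFun := fun t => ⟨⟨t.1, h.invol_mem t.2.2 t.2.1⟩, fun e =>
          ne_one_of_order_two t.2.1 (congrArg Subtype.val e)⟩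
        invFun := fun s => ⟨s.1.1, h.invol_of_mem s.1.2 fun e => s.2 (Subtype.ext e),
          le_normalizer s.1.2⟩
        left_inv := fun t => rfl
        right_inv := fun s => rfl }
  have h3 : Nat.card (Inv S u) = Nat.card (H67.involTo (Mn S) u) :=
    Nat.card_congr
      { toFun := fun d => ⟨u * d.1, by
          refine orderOf_eq_two ?_ fun e => huM ?_
          · obtain ⟨d, -, this⟩ := d
            rw [hu'] at this
            show u * d * (u * d) = 1
            rw [← mul_assoc, this, inv_mul_cancel]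
          · rw [eq_inv_of_mul_eq_one_left e]; exact inv_mem d.2.1,
          by rw [inv_mul_cancel_left]; exact d.2.1⟩
        invFun := fun i => ⟨u⁻¹ * i.1, i.2.2, by
          obtain ⟨i, hi2, -⟩ := i
          show u * (u⁻¹ * i) * u⁻¹ = (u⁻¹ * i)⁻¹
          rw [mul_inv_cancel_left, mul_inv_rev, inv_inv, inv_eq_of_mul_eq_one_right (invol_sq hi2),
            hu']⟩
        left_inv := fun d => Subtype.ext (inv_mul_cancel_left u d.1)
        right_inv := fun i => Subtype.ext (mul_inv_cancel_left u i.1) }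
  rw [h3, h1, h2]
  haveI := Fintype.ofFinite (S : Subgroup G)
  rw [Nat.card_eq_fintype_card, Nat.card_eq_fintype_card, Fintype.card_subtype_compl,
    Fintype.card_subtype_eq]

theorem Setup.inv_free (h : Setup S p) {u d : G} (hu : orderOf u = 2) (huM : u ∉ Mn S)
    (hd : d ∈ Mn S) (hi : u * d * u⁻¹ = d⁻¹) (hd1 : d ≠ 1) : Free S d :=
  ⟨hd, fun _ hs hs1 hc => H67.se_inverted_no_invol h.se hu huM hd hd1 hi (h.invol_of_mem hs hs1)
    (le_normalizer hs) hc.symm⟩

theorem Setup.exists_inv (h : Setup S p) {u : G} (hu : orderOf u = 2) (huM : u ∉ Mn S) :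
    ∃ d : G, d ≠ 1 ∧ d ∈ Mn S ∧ u * d * u⁻¹ = d⁻¹ := by
  have hc := h.card_inv hu huM
  have := h.big
  by_contra hcon
  push Not at hcon
  haveI : Subsingleton (Inv S u) := ⟨fun a b => Subtype.ext (by
    have ha : a.1 = 1 := by_contra fun hne => hcon _ hne a.2.1 a.2.2
    have hb : b.1 = 1 := by_contra fun hne => hcon _ hne b.2.1 b.2.2
    rw [ha, hb])⟩
  haveI : Finite (Inv S u) := Subtype.finite
  have := Finite.card_le_one_iff_subsingleton.2 (inferInstance : Subsingleton (Inv S u))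
  omega

theorem Setup.exists_free (h : Setup S p) : ∃ g, Free S g := by
  obtain ⟨u, hu, huM⟩ := H67.se_exists_invol_not_mem h.se
  obtain ⟨d, hd1, hd, hi⟩ := h.exists_inv hu huM
  exact ⟨d, h.inv_free hu huM hd hi hd1⟩

/-- An odd element inverted by an involution of `S` is trivial. -/
theorem Setup.not_inverted (h : Setup S p) {w y : G} (hw : w ∈ (S : Subgroup G)) (hy : y ∈ Mn S)
    (ho : Odd (orderOf y)) (hi : w * y * w⁻¹ = y⁻¹) : y = 1 := by
  have h1 : y⁻¹ * y⁻¹ ∈ (S : Subgroup G) := by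
    have h2 := mul_mem hw ((mem_normalizer_iff.1 hy _).1 ((S : Subgroup G).inv_mem hw))
    rwa [show w * (y * w⁻¹ * y⁻¹) = (w * y * w⁻¹) * y⁻¹ by group, hi] at h2
  have h3 := h.twoP.sq_of_isPGroup S.isPGroup' _ h1
  have h4 : orderOf y ∣ 4 := orderOf_dvd_of_pow_eq_one (by
    rw [← inv_inj, inv_one, ← inv_pow, show (4 : ℕ) = 2 * 2 from rfl, pow_mul, sq, sq, h3])
  have h5 : orderOf y = 1 :=
    Nat.eq_one_of_dvd_coprimes ((Nat.coprime_two_right.2 ho).pow_right 2) dvd_rfl h4
  exact orderOf_eq_one_iff.1 h5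

theorem inter_odd (h : Setup S p) {u : G} (huM : u ∉ Mn S) {z : G}
    (hz : z ∈ Mn S) (hzu : u⁻¹ * z * u ∈ Mn S) : Odd (orderOf z) := by
  refine Odd.of_dvd_nat (h.se.2.2 u huM) ?_
  exact Subgroup.orderOf_dvd_natCard _ (H65.mem_inf_conj.2 ⟨hz, hzu⟩)

/-- When all elements of the normaliser of odd order have order `p`, an outside involution inverts
everything in the two-point stabiliser. -/
theorem Setup.inter_inverted (h : Setup S p) (hp : ∀ g ∈ Mn S, Odd (orderOf g) → g ≠ 1 → orderOf g = p)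
    (hnf : ∀ g ∈ Mn S, ¬ Free S g → Odd (orderOf g) → ∀ s ∈ (S : Subgroup G), Commute g s)
    {u : G} (hu : orderOf u = 2) (huM : u ∉ Mn S) {z : G} (hz : z ∈ Mn S)
    (hzu : u⁻¹ * z * u ∈ Mn S) : u * z * u⁻¹ = z⁻¹ := by
  haveI := Fact.mk h.twoP.prime
  have hu' : u⁻¹ = u := inv_eq_of_mul_eq_one_right (invol_sq hu)
  set D := Mn S ⊓ (Mn S).map (MulAut.conj u).toMonoidHom with hD
  have hDm : ∀ x, x ∈ D ↔ x ∈ Mn S ∧ u⁻¹ * x * u ∈ Mn S := fun x => H65.mem_inf_conj
  have hDn : u ∈ normalizer (D : Set G) := by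
    refine mem_normalizer_iff.2 fun x => ?_
    rw [hDm, hDm, hu']
    have e : u * (u * x * u) * u = x := by
      rw [show u * (u * x * u) * u = (u * u) * x * (u * u) by group, invol_sq hu, one_mul, mul_one]
    rw [e]
    exact and_comm
  have hDp : IsPGroup p D := by
    refine IsPGroup.iff_orderOf.2 fun ⟨x, hx⟩ => ?_
    rw [orderOf_mk]
    by_cases hx1 : x = 1
    · exact ⟨0, by rw [hx1, orderOf_one, pow_zero]⟩
    · refine ⟨1, ?_⟩
      rw [pow_one]
      exact hp x ((hDm x).1 hx).1 (inter_odd h huM ((hDm x).1 hx).1 ((hDm x).1 hx).2) hx1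
  obtain ⟨d, hd1, hd, hdi⟩ := h.exists_inv hu huM
  have hdD : d ∈ D := (hDm d).2 ⟨hd, by
    rw [hu'] at hdi ⊢; rw [hdi]; exact inv_mem hd⟩
  -- a fixed element commutes with no inverted one
  have key : ∀ c ∈ D, c ≠ 1 → Commute c u → ∀ y ∈ D, u * y * u⁻¹ = y⁻¹ → Commute c y → y = 1 := by
    intro c hc hc1 hcu y hy hyi hcy
    obtain ⟨g, hg⟩ := exists_conj_into h hu
    set c' := g * c * g⁻¹
    have hcM : c' ∈ Mn S := h.cent _ hg (conj_ne_one hu) (mem_centralizer_singleton_iff.2 (by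
      show g * c * g⁻¹ * (g * u * g⁻¹) = g * u * g⁻¹ * (g * c * g⁻¹)
      calc g * c * g⁻¹ * (g * u * g⁻¹) = g * (c * u) * g⁻¹ := by group
        _ = g * (u * c) * g⁻¹ := by rw [hcu.eq]
        _ = _ := by group))
    have hco : Odd (orderOf c') := by
      rw [show c' = MulAut.conj g c from rfl, MulEquiv.orderOf_eq]
      exact inter_odd h huM ((hDm c).1 hc).1 ((hDm c).1 hc).2
    have hc'1 : c' ≠ 1 := fun e => hc1 (conj_eq_one_iff.1 e)
    have hc'u : Commute c' (g * u * g⁻¹) := hcu.map (MulAut.conj g).toMonoidHom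
    have hCc := h.centralizer_le (hp c' hcM hco hc'1)
      (hnf c' hcM (fun hf => hf.2 _ hg (conj_ne_one hu) hc'u) hco)
    have hyM : g * y * g⁻¹ ∈ Mn S := hCc (mem_centralizer_singleton_iff.2
      (hcy.map (MulAut.conj g).toMonoidHom).symm.eq)
    have := h.not_inverted hg hyM (by
      rw [show g * y * g⁻¹ = MulAut.conj g y from rfl, MulEquiv.orderOf_eq]
      exact inter_odd h huM ((hDm y).1 hy).1 ((hDm y).1 hy).2) (by
      calc g * u * g⁻¹ * (g * y * g⁻¹) * (g * u * g⁻¹)⁻¹ = g * (u * y * u⁻¹) * g⁻¹ := by group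
        _ = g * y⁻¹ * g⁻¹ := by rw [hyi]
        _ = _ := by group)
    exact conj_eq_one_iff.1 this
  haveI : Nontrivial D := ⟨⟨d, hdD⟩, 1, fun e => hd1 (congrArg Subtype.val e)⟩
  obtain ⟨⟨⟨z₀, hz₀D⟩, hz₀⟩, hz₀1⟩ := @exists_ne _ hDp.center_nontrivial 1
  have hz₀c : ∀ x ∈ D, Commute x z₀ := fun x hx =>
    congrArg Subtype.val (mem_center_iff.1 hz₀ ⟨x, hx⟩)
  have hz₀ne : z₀ ≠ 1 := fun e => hz₀1 (Subtype.ext (Subtype.ext e))
  -- a central inverted element
  have huz : u * z₀ * u⁻¹ ∈ D := (mem_normalizer_iff.1 hDn z₀).1 hz₀D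
  have hsw : ∀ x : G, u * (u * x * u⁻¹) * u⁻¹ = x := fun x => by
    rw [hu', show u * (u * x * u) * u = (u * u) * x * (u * u) by group, invol_sq hu, one_mul,
      mul_one]
  have hzfix : z₀ * (u * z₀ * u⁻¹) = 1 := by
    by_contra hne
    refine hd1 (key _ (D.mul_mem hz₀D huz) hne ?_ d hdD hdi ?_)
    · show z₀ * (u * z₀ * u⁻¹) * u = u * (z₀ * (u * z₀ * u⁻¹))
      have e : u * (z₀ * (u * z₀ * u⁻¹)) * u⁻¹ = z₀ * (u * z₀ * u⁻¹) := by
        rw [show u * (z₀ * (u * z₀ * u⁻¹)) * u⁻¹ = (u * z₀ * u⁻¹) * (u * (u * z₀ * u⁻¹) * u⁻¹) by group,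
          hsw, (hz₀c _ huz).eq]
      exact (mul_inv_eq_iff_eq_mul.1 e).symm
    · refine ((hz₀c d hdD).symm).mul_left ?_
      have hdi' : u * d⁻¹ * u⁻¹ = d := by
        rw [← inv_inj, show (u * d⁻¹ * u⁻¹)⁻¹ = u * d * u⁻¹ by group, hdi]
      have := (hz₀c d⁻¹ (D.inv_mem hdD)).symm.map (MulAut.conj u).toMonoidHom
      simpa [hdi'] using this
  have hz₀i : u * z₀ * u⁻¹ = z₀⁻¹ := eq_inv_of_mul_eq_one_right hzfix
  refine H93.conj_eq_inv_of_fixedPointFree (invol_sq hu) hDn (fun c hc hcu => ?_)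
    ((hDm z).2 ⟨hz, hzu⟩)
  by_contra hc1
  exact hz₀ne (key c hc hc1 hcu.symm z₀ hz₀D hz₀i (hz₀c c hc))
where
  exists_conj_into (h : Setup S p) {u : G} (hu : orderOf u = 2) :
      ∃ g : G, g * u * g⁻¹ ∈ (S : Subgroup G) := by
    obtain ⟨s, hs, hs1⟩ := h.exists_ne_one
    obtain ⟨g, hg⟩ := isConj_iff.1 (H67.se_isConj h.se hu (h.invol_of_mem hs hs1))
    exact ⟨g, hg ▸ hs⟩
  conj_ne_one {g u : G} (hu : orderOf u = 2) : g * u * g⁻¹ ≠ 1 := fun e =>
    ne_one_of_order_two hu (conj_eq_one_iff.1 e)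

end H59.OneComp
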