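import Cfsg.Agent.H59.OneComp.End
import Cfsg.Agent.H59.OneComp.Klein
import Cfsg.Agent.H59.CIT.SimpleEPPO
import Cfsg.Agent.H11.CIT.Class
import Cfsg.Agent.H57.SzClassSquare

/-!
The simple groups with at most one composite element order.
-/

set_option autoImplicit false
set_option linter.style.haveILetI false

namespace H59.OneComp

open Subgroup

universe u

/-- At most one element order is composite. -/
def OneC (G : Type*) [Group G] : Prop :=
  ∀ a b : G, 1 < orderOf a → ¬ (orderOf a).Prime → 1 < orderOf b → ¬ (orderOf b).Prime →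
    orderOf a = orderOf b

theorem OneC.of_equiv {G H : Type*} [Group G] [Group H] (h : OneC G) (e : G ≃* H) : OneC H :=
  fun a b => by
    have := h (e.symm a) (e.symm b)
    rwa [MulEquiv.orderOf_eq, MulEquiv.orderOf_eq] at this

/-- The list of the theorem. -/
def OneCList (G : Type u) [Group G] : Prop :=
  (∃ (F : Type) (_ : Field F) (_ : Fintype F), (Fintype.card F = 5 ∨ Fintype.card F = 7 ∨
      Fintype.card F = 8 ∨ Fintype.card F = 9 ∨ Fintype.card F = 11 ∨ Fintype.card F = 13 ∨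
      Fintype.card F = 16) ∧ Nonempty (G ≃* Matrix.ProjectiveSpecialLinearGroup (Fin 2) F)) ∨
    (∃ (F : Type) (_ : Field F) (_ : Fintype F), Fintype.card F = 4 ∧
      Nonempty (G ≃* Matrix.ProjectiveSpecialLinearGroup (Fin 3) F)) ∨
    (∃ (F : Type) (_ : Field F) (_ : Fintype F), Fintype.card F = 8 ∧
      Nonempty (G ≃* ↥(Cfsg.Lie.Sz F 4))) ∨
    (∃ (F : Type) (_ : Field F) (_ : Fintype F), ∃ n r s : ℕ, r.Prime ∧ s.Prime ∧
      3 ^ n - 1 = 2 * r ∧ 3 ^ n + 1 = 4 * s ∧ Fintype.card F = 3 ^ n ∧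
      Nonempty (G ≃* Matrix.ProjectiveSpecialLinearGroup (Fin 2) F)) ∨
    (∃ (F : Type) (_ : Field F) (_ : Fintype F), ∃ n r : ℕ, (2 ^ n - 1).Prime ∧ r.Prime ∧
      2 ^ n + 1 = 3 * r ∧ Fintype.card F = 2 ^ n ∧
      Nonempty (G ≃* Matrix.ProjectiveSpecialLinearGroup (Fin 2) F))

variable {G : Type u} [Group G] [Finite G]

/-- The Suzuki groups with at most one composite element order. -/
theorem sz_eq_one {F : Type*} [Field F] [Fintype F] {m : ℕ} (hm : 1 ≤ m)
    (hF : Fintype.card F = 2 ^ (2 * m + 1)) (h : OneC (Cfsg.Sz F m)) : m = 1 := by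
  obtain ⟨Ap, Am, hAp, hAm, hcp, hcm, -, -⟩ := H57.tor_summary hm hF
  have hex : ∀ A : Subgroup (Cfsg.Sz F m), H57.IsTor A → ∃ x : Cfsg.Sz F m, orderOf x = Nat.card A := by
    intro A hA
    obtain ⟨g, hg, rfl⟩ := hA
    obtain ⟨x, hx⟩ := (H57.torEl_centralizer_cyclic hF hg).exists_ofOrder_eq_natCard
    exact ⟨x, by rw [orderOf_coe, hx]⟩
  have h4 := H57.orderOf_tEl_four (m := m) hF (a := (1 : F)) (b := (0 : F)) one_ne_zero
  set q := 2 ^ (2 * m + 1) with hq
  set r := 2 ^ (m + 1) with hr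
  have hqr : q = r * 2 ^ m := by rw [hq, hr, ← pow_add]; congr 1; omega
  have hr4 : 4 ≤ r := by
    rw [hr, show (4 : ℕ) = 2 ^ 2 by norm_num]; exact Nat.pow_le_pow_right (by norm_num) (by omega)
  have hrq : r ≤ q := H57.r_le_q m
  have hr2 : 2 ∣ r := dvd_pow_self 2 (by omega)
  have hq2 : 2 ∣ q := dvd_pow_self 2 (by omega)
  have h5 : 5 ∣ (q + r + 1) * (q - r + 1) := by
    have hsq : r ^ 2 = 2 * q := H57.r_sq m
    have hprod : (q + r + 1) * (q - r + 1) = q ^ 2 + 1 := by
      obtain ⟨c, hc⟩ := Nat.exists_eq_add_of_le hrq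
      rw [hc] at hsq ⊢
      rw [Nat.add_sub_cancel_left]
      linarith [show (r + c + r + 1) * (c + 1) + r ^ 2 = (r + c) ^ 2 + 2 * (r + c) + 1 by ring]
    rw [hprod]
    have : q ^ 2 % 5 = 4 := by
      rw [hq, ← pow_mul, show (2 * m + 1) * 2 = 4 * m + 2 by ring, pow_add, pow_mul, Nat.mul_mod,
        Nat.pow_mod]
      norm_num
    omega
  have hfive : ∀ A : Subgroup (Cfsg.Sz F m), H57.IsTor A → 5 ∣ Nat.card A → ¬ 2 ∣ Nat.card A → Nat.card A = 5 := by
    intro A hA h5A h2A
    by_contra hne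
    obtain ⟨x, hx⟩ := hex A hA
    have hpos : 0 < Nat.card A := Nat.card_pos
    have hx1 : 1 < orderOf x := by rw [hx]; have := Nat.le_of_dvd hpos h5A; omega
    have hxp : ¬ (orderOf x).Prime := fun hp => hne (by
      rw [hx] at hp; exact ((Nat.prime_dvd_prime_iff_eq (by norm_num) hp).1 h5A).symm)
    have := h x _ hx1 hxp (by rw [h4]; norm_num) (by rw [h4]; norm_num)
    rw [h4, hx] at this
    rw [this] at h2A
    exact h2A (by norm_num)
  rcases (Nat.Prime.dvd_mul (by norm_num : Nat.Prime 5)).1 h5 with h5p | h5m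
  · have := hfive Ap hAp (hcp ▸ h5p) (by rw [hcp]; omega)
    rw [hcp] at this
    omega
  · have := hfive Am hAm (hcm ▸ h5m) (by rw [hcm]; omega)
    rw [hcm] at this
    by_contra hm1
    have h4m : 4 ≤ 2 ^ m := by
      rw [show (4 : ℕ) = 2 ^ 2 by norm_num]; exact Nat.pow_le_pow_right (by norm_num) (by omega)
    have : r * 4 ≤ q := hqr ▸ Nat.mul_le_mul_left r h4m
    omega

/-- The groups in the list of simple groups with 2-group involution centralisers. -/
theorem of_cit [IsSimpleGroup G] (hG : ¬ IsMulCommutative G) (h : OneC G) (hl : H11.CIT.CITList G) :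
    OneCList G := by
  rcases hl with ⟨F, _, _, hF, ⟨e⟩⟩ | ⟨F, _, _, hF, he⟩ | ⟨F, _, _, m, hm, hF, ⟨e⟩⟩
  · obtain ⟨c, hc⟩ := CharP.exists F
    haveI := Fact.mk (CharP.char_is_prime F c)
    set q := Fintype.card F with hq
    have hord : ∀ x, x ∣ (q - 1) / Nat.gcd 2 (q - 1) ∨ x ∣ (q + 1) / Nat.gcd 2 (q - 1) →
        ∃ g : G, orderOf g = x := by
      intro x hd
      have hx' : x ∈ {m | m ∣ c ∨ m ∣ (q - 1) / Nat.gcd 2 (q - 1) ∨
          m ∣ (q + 1) / Nat.gcd 2 (q - 1)} := Or.inr hd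
      rw [← H64.psl2_spectrum c] at hx'
      obtain ⟨g, rfl⟩ := hx'
      exact ⟨e.symm g, MulEquiv.orderOf_eq e.symm g⟩
    have hone : ∀ x y, (x ∣ (q - 1) / Nat.gcd 2 (q - 1) ∨ x ∣ (q + 1) / Nat.gcd 2 (q - 1)) →
        (y ∣ (q - 1) / Nat.gcd 2 (q - 1) ∨ y ∣ (q + 1) / Nat.gcd 2 (q - 1)) →
        1 < x → ¬ x.Prime → 1 < y → ¬ y.Prime → x = y := by
      intro x y hx hy
      obtain ⟨a, rfl⟩ := hord x hx
      obtain ⟨b, rfl⟩ := hord y hy
      exact h a b
    rcases hF with hF | ⟨n, hn⟩ | ⟨hp, k, hk⟩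
    · exact Or.inl ⟨F, inferInstance, inferInstance, by simp [hF, ← hq], ⟨e⟩⟩
    · have hn2 : 2 ≤ n := by
        by_contra hlt
        interval_cases n
        · have := Fintype.one_lt_card (α := F); rw [← hq, hn] at this; norm_num at this
        · exact H59.CIT.psl2_small_not hG e (Or.inl (by rw [← hq, hn]; norm_num))
      have hd1 : Nat.gcd 2 (q - 1) = 1 := by
        rw [← Nat.coprime_iff_gcd_eq_one, Nat.coprime_two_left]
        have : 2 ∣ q := hn ▸ dvd_pow_self 2 (by omega)
        have := Fintype.one_lt_card (α := F)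
        rw [Nat.odd_iff]
        omega
      rw [hd1, Nat.div_one, Nat.div_one] at hone
      rcases Nat.lt_or_ge n 5 with hn5 | hn5
      · interval_cases n
        · obtain ⟨i⟩ := H37.PSL2_four_mulEquiv_alternating (F := F)
            (by rw [Nat.card_eq_fintype_card, ← hq, hn]; norm_num)
          haveI : Fact (Nat.Prime 5) := ⟨by norm_num⟩
          obtain ⟨i'⟩ := H37.PSL2_five_mulEquiv_alternating (F := ZMod 5) (ZMod.card 5)
          exact Or.inl ⟨ZMod 5, inferInstance, inferInstance, Or.inl (ZMod.card 5),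
            ⟨(e.trans i).trans i'.symm⟩⟩
        · exact Or.inl ⟨F, inferInstance, inferInstance, by simp [hn, ← hq], ⟨e⟩⟩
        · exact Or.inl ⟨F, inferInstance, inferInstance, by simp [hn, ← hq], ⟨e⟩⟩
      rcases Nat.even_or_odd n with ⟨j, hj⟩ | hodd
      · -- two composite orders
        exfalso
        have h8 : 8 ≤ 2 ^ j := by
          rw [show (8 : ℕ) = 2 ^ 3 by norm_num]; exact Nat.pow_le_pow_right (by norm_num) (by omega)
        have hfac : q - 1 = (2 ^ j - 1) * (2 ^ j + 1) := by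
          obtain ⟨c, hc⟩ := Nat.exists_eq_add_of_le (show 1 ≤ 2 ^ j by omega)
          rw [hn, hj, pow_add, hc, Nat.add_sub_cancel_left]
          have : (1 + c) * (1 + c) = c * (1 + c + 1) + 1 := by ring
          omega
        have key : ∀ x y : ℕ, q - 1 = x * y → 3 ∣ x → 3 < x → 1 < y → False := by
          intro x y hxy h3 hx hy
          have hxp : ¬ x.Prime := fun hp => by
            have := (Nat.prime_dvd_prime_iff_eq Nat.prime_three hp).1 h3; omega
          have hlt : x < x * y := lt_mul_of_one_lt_right (by omega) hy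
          have := hone x (q - 1) (Or.inl (hxy ▸ Dvd.intro y rfl)) (Or.inl dvd_rfl) (by omega) hxp
            (by omega) (hxy ▸ Nat.not_prime_mul (by omega) (by omega))
          omega
        rcases (Nat.Prime.dvd_mul Nat.prime_three).1 (hfac ▸
          (hn ▸ H59.CIT.three_dvd_two_pow_sub_one (n := n) ⟨j, hj⟩ : 3 ∣ q - 1)) with h3 | h3
        · exact key _ _ hfac h3 (by omega) (by omega)
        · exact key _ _ (hfac.trans (mul_comm _ _)) h3 (by omega) (by omega)
      · have h32 : 32 ≤ q := by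
          rw [hn, show (32 : ℕ) = 2 ^ 5 by norm_num]; exact Nat.pow_le_pow_right (by norm_num) hn5
        obtain ⟨r, hr⟩ := H59.CIT.three_dvd_two_pow_add_one hodd
        have hr' : q + 1 = 3 * r := by rw [hn]; exact hr
        have hp1 : ¬ (q + 1).Prime := hr' ▸ Nat.not_prime_mul (by norm_num) (by omega)
        refine Or.inr (Or.inr (Or.inr (Or.inr ⟨F, inferInstance, inferInstance, n, r, ?_, ?_, hr,
          hn, ⟨e⟩⟩)))
        · rw [← hn]
          by_contra hcon
          have := hone (q - 1) (q + 1) (Or.inl dvd_rfl) (Or.inr dvd_rfl) (by omega) hcon (by omega) hp1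
          omega
        · by_contra hcon
          have := hone r (q + 1) (Or.inr (hr' ▸ Dvd.intro_left 3 rfl)) (Or.inr dvd_rfl) (by omega) hcon
            (by omega) hp1
          omega
    · by_cases hq3 : q ≤ 3
      · have := hp.two_le
        exact (H59.CIT.psl2_small_not hG e (by omega)).elim
      have hodd : Odd q := hp.odd_of_ne_two (by omega)
      have hd2 : Nat.gcd 2 (q - 1) = 2 := Nat.gcd_eq_left (by
        rw [Nat.odd_iff] at hodd; omega)
      rw [hd2] at hone
      have hk3 : k ≤ 3 := by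
        by_contra hk4
        have h16 : 2 ^ k = 16 * 2 ^ (k - 4) := by
          rw [show (16 : ℕ) = 2 ^ 4 by norm_num, ← pow_add, Nat.add_sub_cancel' (by omega)]
        have h48 : (4 ∣ (q - 1) / 2 ∧ 8 ∣ (q - 1) / 2) ∨ (4 ∣ (q + 1) / 2 ∧ 8 ∣ (q + 1) / 2) := by
          rcases hk with hk | hk
          · left; omega
          · right; omega
        have h4p : ¬ Nat.Prime 4 := by norm_num
        have h8p : ¬ Nat.Prime 8 := by norm_num
        rcases h48 with ⟨a, b⟩ | ⟨a, b⟩
        · have := hone 4 8 (Or.inl a) (Or.inl b) (by norm_num) h4p (by norm_num) h8p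
          omega
        · have := hone 4 8 (Or.inr a) (Or.inr b) (by norm_num) h4p (by norm_num) h8p
          omega
      refine Or.inl ⟨F, inferInstance, inferInstance, ?_, ⟨e⟩⟩
      interval_cases k <;> omega
  · exact Or.inr (Or.inl ⟨F, inferInstance, inferInstance, hF, he⟩)
  · obtain rfl := sz_eq_one hm hF ((h.of_equiv e).of_equiv (H57.lieSzEquiv hm hF).symm)
    exact Or.inr (Or.inr (Or.inl ⟨F, inferInstance, inferInstance, hF, ⟨e⟩⟩))

/-- The groups `PSL(2, q)`, `q` odd, with only composite order `2p`. -/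
theorem of_psl_odd [IsSimpleGroup G] (hG : ¬ IsMulCommutative G) {p : ℕ} (h : TwoP G p) {F : Type}
    [Field F] [Fintype F] (hodd : Odd (Fintype.card F))
    (e : G ≃* Matrix.ProjectiveSpecialLinearGroup (Fin 2) F) : OneCList G := by
  obtain ⟨c, hc⟩ := CharP.exists F
  haveI := Fact.mk (CharP.char_is_prime F c)
  obtain ⟨n, -, hn⟩ := FiniteField.card F c
  set q := Fintype.card F with hq
  have hq2 : 2 ≤ q := Fintype.one_lt_card
  have hq4 : 3 < q := by
    by_contra hlt
    exact H59.CIT.psl2_small_not hG e (by omega)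
  have hqo := Nat.odd_iff.1 hodd
  have hd2 : Nat.gcd 2 (q - 1) = 2 := Nat.gcd_eq_left (by omega)
  have hord : ∀ x, (x ∣ (q - 1) / 2 ∨ x ∣ (q + 1) / 2) → x = 1 ∨ x.Prime ∨ x = 2 * p := by
    intro x hd
    have hx' : x ∈ {m | m ∣ c ∨ m ∣ (q - 1) / Nat.gcd 2 (q - 1) ∨
        m ∣ (q + 1) / Nat.gcd 2 (q - 1)} := Or.inr (by rwa [hd2])
    rw [← H64.psl2_spectrum c] at hx'
    obtain ⟨g, rfl⟩ := hx'
    rw [← MulEquiv.orderOf_eq e.symm g]
    exact h.orders _
  have heven : ∀ x, (x ∣ (q - 1) / 2 ∨ x ∣ (q + 1) / 2) → 2 ∣ x → x = 2 ∨ x = 2 * p := by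
    intro x hx h2
    rcases hord x hx with h1 | h1 | h1
    · omega
    · exact Or.inl ((Nat.prime_dvd_prime_iff_eq Nat.prime_two h1).1 h2).symm
    · exact Or.inr h1
  have hoddo : ∀ x, (x ∣ (q - 1) / 2 ∨ x ∣ (q + 1) / 2) → ¬ 2 ∣ x → x = 1 ∨ x.Prime := by
    intro x hx h2
    rcases hord x hx with h1 | h1 | h1
    · exact Or.inl h1
    · exact Or.inr h1
    · exact absurd (Dvd.intro p h1.symm) h2
  have hpodd := Nat.odd_iff.1 h.odd_p
  have hp3 : 3 ≤ p := by have := h.prime.two_le; omega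
  by_cases hc3 : c = 3
  · subst hc3
    rcases Nat.even_or_odd (n : ℕ) with hev | ho
    · exfalso
      have h8 := H59.CIT.three_pow_mod_eight n
      rw [if_pos hev, ← hn] at h8
      rcases heven ((q - 1) / 2) (Or.inl dvd_rfl) (by omega) with h1 | h1 <;> omega
    · have h8 := H59.CIT.three_pow_mod_eight n
      rw [if_neg (Nat.not_even_iff_odd.2 ho), ← hn] at h8
      rcases heven ((q + 1) / 2) (Or.inr dvd_rfl) (by omega) with h1 | h1
      · omega
      rcases hoddo ((q - 1) / 2) (Or.inl dvd_rfl) (by omega) with h2 | h2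
      · omega
      refine Or.inr (Or.inr (Or.inr (Or.inl ⟨F, inferInstance, inferInstance, n, (q - 1) / 2, p, h2,
        h.prime, ?_, ?_, hn, ⟨e⟩⟩)))
      · rw [← hn]; omega
      · rw [← hn]; omega
  · have h3 : ¬ 3 ∣ q := fun hd => hc3
      ((Nat.prime_dvd_prime_iff_eq Nat.prime_three (CharP.char_is_prime F c)).1
        (Nat.prime_three.dvd_of_dvd_pow (hn ▸ hd))).symm
    refine Or.inl ⟨F, inferInstance, inferInstance, ?_, ⟨e⟩⟩
    have h3or : 3 ∣ (q - 1) / 2 ∨ 3 ∣ (q + 1) / 2 := by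
      rcases (show q % 3 = 1 ∨ q % 3 = 2 by omega) with h0 | h0
      · left; omega
      · right; omega
    rcases (show 2 ∣ (q - 1) / 2 ∨ 2 ∣ (q + 1) / 2 by omega) with hE | hE
    · rcases heven _ (Or.inl dvd_rfl) hE with h1 | h1
      · omega
      rcases h3or with h3' | h3'
      · have : p = 3 := ((Nat.prime_dvd_prime_iff_eq Nat.prime_three h.prime).1 (by omega)).symm
        omega
      · rcases hoddo _ (Or.inr dvd_rfl) (by omega) with h2 | h2
        · omega
        · have := (Nat.prime_dvd_prime_iff_eq Nat.prime_three h2).1 h3'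
          omega
    · rcases heven _ (Or.inr dvd_rfl) hE with h1 | h1
      · omega
      rcases h3or with h3' | h3'
      · rcases hoddo _ (Or.inl dvd_rfl) (by omega) with h2 | h2
        · omega
        · have := (Nat.prime_dvd_prime_iff_eq Nat.prime_three h2).1 h3'
          omega
      · have : p = 3 := ((Nat.prime_dvd_prime_iff_eq Nat.prime_three h.prime).1 (by omega)).symm
        omega

/-- Simple groups with at most one composite element order. -/
theorem classify [IsSimpleGroup G] (hG : ¬ IsMulCommutative G) (h : OneC G) : OneCList G := by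
  classical
  haveI : Fact (Nat.Prime 2) := ⟨Nat.prime_two⟩
  by_cases hcit : H11.CIT.IsCIT G
  · exact of_cit hG h (H11.CIT.citClass G hG hcit)
  simp only [H11.CIT.IsCIT, not_forall] at hcit
  obtain ⟨t, ht, hC⟩ := hcit
  obtain ⟨p, hp, hpd, hp2⟩ : ∃ p : ℕ, p.Prime ∧ p ∣ Nat.card (centralizer ({t} : Set G)) ∧ p ≠ 2 := by
    by_contra hcon
    push Not at hcon
    exact hC (IsPGroup.of_card (n := (Nat.card (centralizer ({t} : Set G))).primeFactorsList.length)
      (Nat.eq_prime_pow_of_unique_prime_dvd Nat.card_pos.ne' fun {d} hd hdd => hcon d hd hdd))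
  haveI := Fact.mk hp
  obtain ⟨⟨x, hxC⟩, hx⟩ := exists_prime_orderOf_dvd_card' p hpd
  rw [orderOf_mk] at hx
  have hc : Commute x t := mem_centralizer_singleton_iff.1 hxC
  have hg : orderOf (x * t) = 2 * p := by
    rw [hc.orderOf_mul_eq_mul_orderOf_of_coprime (by
      rw [hx, ht]; exact (Nat.coprime_primes hp Nat.prime_two).2 hp2), hx, ht, mul_comm]
  have hnp : ¬ (2 * p).Prime := Nat.not_prime_mul (by norm_num) hp.ne_one
  have hT : TwoP G p := by
    refine ⟨hp, hp2, fun g => ?_⟩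
    by_cases h1 : orderOf g = 1
    · exact Or.inl h1
    by_cases h2 : (orderOf g).Prime
    · exact Or.inr (Or.inl h2)
    refine Or.inr (Or.inr ?_)
    rw [← hg]
    exact h g (x * t) (by have := orderOf_pos g; omega) h2 (by rw [hg]; have := hp.two_le; omega)
      (by rwa [hg])
  obtain ⟨S⟩ : Nonempty (Sylow 2 G) := inferInstance
  obtain ⟨k, hk⟩ := IsPGroup.iff_card.1 S.isPGroup'
  have h2G : 2 ∣ Nat.card G := ht ▸ orderOf_dvd_natCard t
  have hk0 : k ≠ 0 := fun h0 =>
    S.ne_bot_of_dvd_card h2G (Subgroup.card_eq_one.1 (by rw [hk, h0, pow_zero]))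
  have hk1 : k ≠ 1 := by
    intro h0
    rw [h0, pow_one] at hk
    refine H62.not_normalizer_le_centralizer hG h2G S fun n hn => mem_centralizer_iff.2 fun s hs => ?_
    by_cases hs1 : s = 1
    · rw [hs1, one_mul, mul_one]
    have hz : zpowers s = (S : Subgroup G) := eq_of_le_of_card_ge (zpowers_le.2 hs) (by
      rw [hk, Nat.card_zpowers, orderOf_eq_two (hT.sq_of_isPGroup S.isPGroup' s hs) hs1])
    have hns : n * s * n⁻¹ ∈ zpowers s := by rw [hz]; exact (mem_normalizer_iff.1 hn s).1 hs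
    rcases H93.zpowers_two_cases (orderOf_eq_two (hT.sq_of_isPGroup S.isPGroup' s hs) hs1) hns
      with e | e
    · exact absurd (conj_eq_one_iff.1 e) hs1
    · exact (mul_inv_eq_iff_eq_mul.1 e).symm
  rcases (show k = 2 ∨ 3 ≤ k by omega) with hk2 | hk3
  · rw [hk2] at hk
    obtain ⟨F, i1, i2, hodd, ⟨e⟩⟩ := hT.psl_of_four hG S (by rw [hk]; norm_num) hg
    exact of_psl_odd hG hT hodd e
  · exact (hT.false_of_big hG S (by
      rw [hk, show (8 : ℕ) = 2 ^ 3 by norm_num]; exact Nat.pow_le_pow_right (by norm_num) hk3) hg).elim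

end H59.OneComp
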