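import Cfsg.Agent.H59.OneComp.Points

/-!
The two-point stabiliser is bigger than cyclic: an element of order `p` in it fixes exactly one
involution of the Sylow subgroup and exactly three points, so `p = 3` and the kernel is the Sylow
subgroup.
-/

set_option autoImplicit false
set_option linter.style.haveILetI false
set_option linter.unusedSectionVars false

namespace H59.OneComp

open Subgroup

variable {G : Type*} [Group G] [Finite G] {p r : ℕ} {S : Sylow 2 G}
variable {R : Subgroup (MulAut (S : Subgroup G))} {u : G} {Y : Mn S}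

theorem Base.eq_one_of_fix (b : Base S r u Y) (h : Setup S p) (d : Data S p r R)
    {f : MulAut (S : Subgroup G)} (hf : f ∈ R) {s : (S : Subgroup G)} (hs : s ≠ 1) (hfs : f s = s) :
    f = 1 := by
  by_contra hf1
  rw [← b.zpowers_act d h] at hf
  obtain ⟨i, rfl⟩ := hf
  simp only at hfs hf1
  rw [← map_zpow] at hfs hf1
  refine hs ((h.free_fix (Y ^ i)).1 ((d.free_iff _).2 ⟨?_, hf1⟩) s hfs)
  rw [map_zpow]
  exact zpow_mem (b.act_mem d h).1 i

theorem Base.exists_mem_apply (b : Base S r u Y) (h : Setup S p) (d : Data S p r R)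
    {s₀ s : (S : Subgroup G)} (hs₀ : s₀ ≠ 1) (hs : s ≠ 1) : ∃ f ∈ R, f s₀ = s := by
  classical
  haveI := Fintype.ofFinite (S : Subgroup G)
  let Φ : R → {x : (S : Subgroup G) // x ≠ 1} := fun f =>
    ⟨(f : MulAut (S : Subgroup G)) s₀, fun e => hs₀ ((MulEquiv.map_eq_one_iff _).1 e)⟩
  have hinj : Function.Injective Φ := fun f g hfg => by
    have h0 : (f : MulAut (S : Subgroup G)) s₀ = (g : MulAut (S : Subgroup G)) s₀ :=
      congrArg Subtype.val hfg
    refine (Subtype.ext (inv_mul_eq_one.1 (b.eq_one_of_fix h d (R.mul_mem (R.inv_mem g.2) f.2) hs₀ ?_))).symm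
    show (g : MulAut (S : Subgroup G))⁻¹ ((f : MulAut (S : Subgroup G)) s₀) = s₀
    rw [h0]
    exact (g : MulAut (S : Subgroup G)).symm_apply_apply s₀
  have hcard : Nat.card R = Nat.card {x : (S : Subgroup G) // x ≠ 1} := by
    rw [d.card_R, Nat.card_eq_fintype_card, Fintype.card_subtype_compl, Fintype.card_subtype_eq,
      ← Nat.card_eq_fintype_card, d.card_S, Nat.add_sub_cancel]
  obtain ⟨⟨f, hf⟩, hfs⟩ := ((Nat.bijective_iff_injective_and_card Φ).2 ⟨hinj, hcard⟩).2 ⟨s, hs⟩
  exact ⟨f, hf, congrArg Subtype.val hfs⟩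

/-- An automiser element centralising `R` and fixing an involution is trivial. -/
theorem Base.act_eq_one (b : Base S r u Y) (h : Setup S p) (d : Data S p r R) {z : Mn S}
    (hc : ∀ f ∈ R, Commute (act S z) f) {s : (S : Subgroup G)} (hs : s ≠ 1) (hz : act S z s = s) :
    act S z = 1 := by
  refine MulEquiv.ext fun x => ?_
  by_cases hx : x = 1
  · rw [hx, map_one, map_one]
  · obtain ⟨f, hf, rfl⟩ := b.exists_mem_apply h d hs hx
    show act S z (f s) = f s
    have := congrArg (fun e : MulAut (S : Subgroup G) => e s) (hc f hf).eq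
    simp only [MulAut.mul_apply] at this
    rw [this, hz]

/-- A nontrivial automiser element fixes at most one involution. -/
theorem Base.unique_fix (b : Base S r u Y) (h : Setup S p) (d : Data S p r R) {z : Mn S}
    (hz : act S z ≠ 1) {s s' : (S : Subgroup G)} (hs : s ≠ 1) (hs' : s' ≠ 1) (hzs : act S z s = s)
    (hzs' : act S z s' = s') : s' = s := by
  obtain ⟨f, hf, rfl⟩ := b.exists_mem_apply h d hs hs'
  by_contra hne
  have hf1 : f ≠ 1 := fun e => hne (by rw [e]; rfl)
  have hgR := d.normal z f hf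
  have hgs : (act S z * f * (act S z)⁻¹) s = f s := by
    have h1 : (act S z)⁻¹ s = s := by
      conv_lhs => rw [← hzs]
      exact (act S z).symm_apply_apply s
    show act S z (f ((act S z)⁻¹ s)) = f s
    rw [h1, hzs']
  have hcf : act S z * f * (act S z)⁻¹ = f := by
    refine (inv_mul_eq_one.1 (b.eq_one_of_fix h d (R.mul_mem (R.inv_mem hf) hgR) hs ?_)).symm
    show f⁻¹ ((act S z * f * (act S z)⁻¹) s) = s
    rw [hgs]
    exact f.symm_apply_apply s
  have hgen : zpowers f = R := eq_of_le_of_card_ge (zpowers_le.2 hf) (by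
    rw [d.card_R, Nat.card_zpowers]
    rcases (Nat.dvd_prime d.prime).1 (d.card_R ▸ Subgroup.orderOf_dvd_natCard R hf) with h1 | h1
    · exact absurd (orderOf_eq_one_iff.1 h1) hf1
    · rw [h1])
  refine hz (b.act_eq_one h d (fun g hg => ?_) hs hzs)
  rw [← hgen] at hg
  obtain ⟨i, rfl⟩ := hg
  exact Commute.zpow_right (mul_inv_eq_iff_eq_mul.1 hcf : Commute (act S z) f) i

/-- An element of order `p` of the two-point stabiliser, and the involution it fixes. -/
structure Extra (S : Sylow 2 G) (p : ℕ) (u : G) (X : Mn S) (T : (S : Subgroup G)) : Prop where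
  order : orderOf (X : G) = p
  both : u⁻¹ * X * u ∈ Mn S
  act_ne : act S X ≠ 1
  ne_one : T ≠ 1
  comm : Commute (X : G) T

variable {X : Mn S} {T : (S : Subgroup G)}

theorem Base.exists_extra (b : Base S r u Y) (h : Setup S p) (d : Data S p r R)
    (hbig : ¬ ∀ z : Mn S, u⁻¹ * z * u ∈ Mn S → act S z ∈ R) : ∃ X T, Extra S p u X T := by
  push Not at hbig
  obtain ⟨z, hz, hzR⟩ := hbig
  have hz1 : act S z ≠ 1 := fun e => hzR (e ▸ R.one_mem)
  have hnf : ¬ Free S (z : G) := fun hf => hzR ((d.free_iff z).1 hf).1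
  have ho := h.eq_p_of_not_free z.2 hnf (inter_odd h b.notMem z.2 hz) fun e => hz1 (by
    rw [show z = 1 from Subtype.ext e, map_one])
  simp only [Free, z.2, true_and, not_forall, not_not] at hnf
  obtain ⟨s, hs, hs1, hc⟩ := hnf
  exact ⟨z, ⟨s, hs⟩, ho, hz, hz1, fun e => hs1 (congrArg Subtype.val e), hc⟩

theorem Extra.fix_eq (e : Extra S p u X T) (b : Base S r u Y) (h : Setup S p) (d : Data S p r R)
    {s : G} (hs : s ∈ (S : Subgroup G)) (hs1 : s ≠ 1) (hc : Commute (X : G) s) : s = T :=
  congrArg Subtype.val (b.unique_fix h d e.act_ne e.ne_one (s' := ⟨s, hs⟩)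
    (fun h1 => hs1 (congrArg Subtype.val h1)) ((act_fix X T).2 e.comm) ((act_fix X ⟨s, hs⟩).2 hc))

theorem Extra.r_ne (e : Extra S p u X T) (b : Base S r u Y) (h : Setup S p) (d : Data S p r R) :
    r ≠ p :=
  b.r_ne h d ⟨T, X, h.invol_of_mem T.2 (fun h1 => e.ne_one (Subtype.ext h1)), e.order, e.comm⟩

theorem Extra.fix_base (e : Extra S p u X T) :
    (X : G) • (QuotientGroup.mk 1 : G ⧸ Mn S) = QuotientGroup.mk 1 :=
  base_smul_iff.2 X.2

theorem Extra.fix_other (e : Extra S p u X T) :
    (X : G) • (QuotientGroup.mk u : G ⧸ Mn S) = QuotientGroup.mk u :=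
  H65.smul_coset_eq_iff.2 e.both

/-- An involution fixes only one point. -/
theorem Setup.fixed_unique (h : Setup S p) {w : G} (hw : orderOf w = 2) {a c : G ⧸ Mn S}
    (ha : w • a = a) (hc : w • c = c) : a = c := by
  obtain ⟨g, rfl⟩ := QuotientGroup.mk_surjective a
  obtain ⟨k, rfl⟩ := QuotientGroup.mk_surjective c
  rw [H65.smul_coset_eq_iff] at ha hc
  refine QuotientGroup.eq.2 (H65.se_conj_mem h.se (t := g⁻¹ * w * g) ?_ ha ?_)
  · simpa using H67.invol_conj hw g⁻¹
  · rwa [show (g⁻¹ * k)⁻¹ * (g⁻¹ * w * g) * (g⁻¹ * k) = k⁻¹ * w * k by group]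

/-- At each of its fixed points an element of order `p` commutes with an involution. -/
theorem Setup.exists_invol_at (h : Setup S p) (d : Data S p r R) (hrp : r ≠ p) {x : G}
    (hx : orderOf x = p) {a : G ⧸ Mn S} (ha : x • a = a) :
    ∃ w : G, orderOf w = 2 ∧ Commute x w ∧ w • a = a := by
  obtain ⟨g, rfl⟩ := QuotientGroup.mk_surjective a
  rw [H65.smul_coset_eq_iff] at ha
  have hnf : ¬ Free S (g⁻¹ * x * g) := fun hf => hrp (by
    rw [← h.free_order_eq d hf, ← hx, show g⁻¹ * x * g = MulAut.conj g⁻¹ x by simp, MulEquiv.orderOf_eq])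
  simp only [Free, ha, true_and, not_forall, not_not] at hnf
  obtain ⟨s, hs, hs1, hc⟩ := hnf
  refine ⟨g * s * g⁻¹, H67.invol_conj (h.invol_of_mem hs hs1) g, ?_, ?_⟩
  · have := hc.map (MulAut.conj g).toMonoidHom
    simpa [mul_assoc] using this
  · rw [H65.smul_coset_eq_iff, show g⁻¹ * (g * s * g⁻¹) * g = s by group]
    exact le_normalizer hs

/-- The fixed points of `X`. -/
abbrev Fix (X : Mn S) : Type _ := {a : G ⧸ Mn S // (X : G) • a = a}

theorem Extra.card_fix (e : Extra S p u X T) (b : Base S r u Y) (h : Setup S p) (d : Data S p r R) :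
    Nat.card (Fix X) = Nat.card ((act S).ker ⊓ centralizer ({X} : Set (Mn S)) : Subgroup (Mn S)) + 1 := by
  classical
  have hrp := e.r_ne b h d
  set H := ((act S).ker ⊓ centralizer ({X} : Set (Mn S)) : Subgroup (Mn S))
  have hfix : ∀ k : H, (X : G) • (((k : Mn S) : G) • (QuotientGroup.mk u : G ⧸ Mn S)) =
      ((k : Mn S) : G) • QuotientGroup.mk u := fun k => by
    have hk : ((k : Mn S) : G) * (X : G) = (X : G) * ((k : Mn S) : G) :=
      congrArg Subtype.val (mem_centralizer_singleton_iff.1 k.2.2)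
    rw [← mul_smul, ← hk, mul_smul, e.fix_other]
  haveI : Finite (Fix X) := Subtype.finite
  haveI := Fintype.ofFinite (Fix X)
  have hbij : Nat.card H = Nat.card {a : Fix X // a.1 ≠ QuotientGroup.mk 1} := by
    refine Nat.card_congr (Equiv.ofBijective (fun k => ⟨⟨_, hfix k⟩, fun he =>
      b.ne.symm (MulAction.injective ((k : Mn S) : G) (he.trans (base_smul_iff.2 (k : Mn S).2).symm))⟩)
      ⟨fun k k' hkk => ?_, fun a => ?_⟩)
    · exact Subtype.ext (b.regular d k.2.1 k'.2.1 (congrArg (fun a => a.1.1) hkk))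
    · obtain ⟨k, hk, hka⟩ := b.transitive h d hrp a.2
      have hkX : X * k * X⁻¹ = k := by
        refine b.regular d (by rw [map_mul, map_mul, map_inv, hk, mul_one, mul_inv_cancel]) hk ?_
        rw [Subgroup.coe_mul, Subgroup.coe_mul, Subgroup.coe_inv, mul_smul, mul_smul,
          inv_smul_eq_iff.2 e.fix_other.symm, hka]
        exact a.1.2
      exact ⟨⟨k, hk, mem_centralizer_singleton_iff.2 (mul_inv_eq_iff_eq_mul.1 hkX).symm⟩,
        Subtype.ext (Subtype.ext hka)⟩
  have h1 : Nat.card {a : Fix X // a = ⟨_, e.fix_base⟩} = 1 := by simp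
  rw [hbij, ← Nat.card_congr (Equiv.sumCompl fun a : Fix X => a.1 ≠ QuotientGroup.mk 1), Nat.card_sum]
  congr 1
  rw [← h1]
  exact Nat.card_congr (Equiv.subtypeEquivRight fun a => by rw [not_not, Subtype.ext_iff])

theorem Extra.card_centralizer (e : Extra S p u X T) (b : Base S r u Y) (h : Setup S p)
    (d : Data S p r R) : Nat.card (centralizer ({(X : G)} : Set G)) =
      Nat.card (Fix X) * Nat.card ((Mn S).subgroupOf (centralizer ({(X : G)} : Set G))) := by
  set C := centralizer ({(X : G)} : Set G) with hC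
  have hCfix : ∀ g ∈ C, ∀ a : G ⧸ Mn S, (X : G) • a = a → (X : G) • g • a = g • a := fun g hg a ha => by
    rw [← mul_smul, ← mem_centralizer_singleton_iff.1 hg, mul_smul, ha]
  have horb : MulAction.orbit C (QuotientGroup.mk 1 : G ⧸ Mn S) = {a | (X : G) • a = a} := by
    ext a
    constructor
    · rintro ⟨g, rfl⟩
      exact hCfix g g.2 _ e.fix_base
    · intro ha
      obtain ⟨w, hw, hwx, hwa⟩ := h.exists_invol_at d (e.r_ne b h d) e.order ha
      have hT : orderOf (T : G) = 2 := h.invol_of_mem T.2 fun h1 => e.ne_one (Subtype.ext h1)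
      set w' : C := ⟨w, mem_centralizer_singleton_iff.2 hwx.symm.eq⟩
      set t' : C := ⟨T, mem_centralizer_singleton_iff.2 e.comm.symm.eq⟩
      by_cases hc : IsConj t' w'
      · obtain ⟨g, hg⟩ := isConj_iff.1 hc
        refine ⟨g, h.fixed_unique hw ?_ hwa⟩
        have hg' : (g : G) * T * (g : G)⁻¹ = w := congrArg Subtype.val hg
        show w • ((g : G) • (QuotientGroup.mk 1 : G ⧸ Mn S)) = (g : G) • QuotientGroup.mk 1
        rw [← hg', mul_smul, inv_smul_smul, mul_smul, base_smul_iff.2 (le_normalizer T.2)]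
      · obtain ⟨v, -, hv, hvt, hvw⟩ := H70.exists_commute_of_not_isConj
          (by rw [← orderOf_coe]; exact hT) (by rw [← orderOf_coe]; exact hw) hc
        have hv2 : orderOf (v : G) = 2 := by rw [orderOf_coe]; exact hv
        refine ⟨1, ?_⟩
        have e1 : ∀ {y z : G}, orderOf y = 2 → Commute z y → ∀ {c : G ⧸ Mn S}, y • c = c → z • c = c := by
          intro y z hy hzy c hc
          refine h.fixed_unique hy ?_ hc
          rw [← mul_smul, ← hzy.eq, mul_smul, hc]
        have hvt' : Commute (v : G) T := congrArg Subtype.val hvt.eq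
        have hvw' : Commute (v : G) w := congrArg Subtype.val hvw.eq
        show ((1 : C) : G) • (QuotientGroup.mk 1 : G ⧸ Mn S) = a
        rw [Subgroup.coe_one, one_smul]
        exact h.fixed_unique hv2 (e1 hT hvt' (base_smul_iff.2 (le_normalizer T.2))) (e1 hw hvw' hwa)
  have hst : MulAction.stabilizer C (QuotientGroup.mk 1 : G ⧸ Mn S) = (Mn S).subgroupOf C := by
    ext g
    exact MulAction.mem_stabilizer_iff.trans base_smul_iff
  have := MulAction.index_stabilizer C (QuotientGroup.mk 1 : G ⧸ Mn S)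
  rw [horb, hst] at this
  rw [← ((Mn S).subgroupOf C).card_mul_index, this, mul_comm]
  rfl

theorem Extra.card_ker_centralizer (e : Extra S p u X T) (b : Base S r u Y) (h : Setup S p)
    (d : Data S p r R) :
    Nat.card ((act S).ker ⊓ centralizer ({X} : Set (Mn S)) : Subgroup (Mn S)) = 2 ∧ p = 3 := by
  classical
  haveI : Fact (Nat.Prime 2) := ⟨Nat.prime_two⟩
  set H := ((act S).ker ⊓ centralizer ({X} : Set (Mn S)) : Subgroup (Mn S))
  have hT2 : orderOf (T : G) = 2 := h.invol_of_mem T.2 fun h1 => e.ne_one (Subtype.ext h1)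
  have hTH : (⟨T, le_normalizer T.2⟩ : Mn S) ∈ H :=
    ⟨MonoidHom.mem_ker.2 (h.act_two (k := 1) (by rw [pow_one]; exact hT2)),
      mem_centralizer_singleton_iff.2 (Subtype.ext e.comm.symm.eq)⟩
  have h2H : 2 ∣ Nat.card H := by
    have := Subgroup.orderOf_dvd_natCard H hTH
    rwa [← orderOf_coe, show ((⟨T, le_normalizer T.2⟩ : Mn S) : G) = T from rfl, hT2] at this
  set C := centralizer ({(X : G)} : Set G)
  have hHC : Nat.card H ∣ Nat.card C := by
    rw [← card_map_of_injective (K := H) (Mn S).subtype_injective]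
    refine card_dvd_of_le ?_
    rintro _ ⟨k, hk, rfl⟩
    exact mem_centralizer_singleton_iff.2 (congrArg Subtype.val (mem_centralizer_singleton_iff.1 hk.2))
  have hdvd : Nat.card H + 1 ∣ Nat.card C := by
    rw [e.card_centralizer b h d, e.card_fix b h d]
    exact dvd_mul_right _ _
  obtain ⟨l, hl, hld⟩ := Nat.exists_prime_and_dvd (n := Nat.card H + 1)
    (by have := Nat.card_pos (α := H); omega)
  have hlp : l = p := by
    refine (h.twoP.primes_centralizer (Or.inr e.order) l hl (hld.trans hdvd)).resolve_left fun h2 => ?_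
    subst h2
    omega
  subst hlp
  have hpH : ¬ l ∣ Nat.card H := fun hd => hl.ne_one (Nat.dvd_one.1 ((Nat.dvd_add_right hd).1 hld))
  have hH2 : IsPGroup 2 H := IsPGroup.of_card (n := (Nat.card H).primeFactorsList.length)
    (Nat.eq_prime_pow_of_unique_prime_dvd Nat.card_pos.ne' fun {q} hq hqd =>
      (h.twoP.primes_centralizer (Or.inr e.order) q hq (hqd.trans hHC)).resolve_right
        fun hql => hpH (hql ▸ hqd))
  have hmem : ∀ k : H, k ≠ 1 → (((k : Mn S) : G)) = T := fun k hk => by
    obtain ⟨j, hj⟩ := IsPGroup.iff_orderOf.1 hH2 k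
    rw [← orderOf_coe, ← orderOf_coe] at hj
    refine e.fix_eq b h d (mem_sylow_of_normalizes S (k : Mn S).2 hj)
      (fun he => hk (Subtype.ext (Subtype.ext he))) ?_
    exact (congrArg Subtype.val (mem_centralizer_singleton_iff.1 k.2.2) : _ * _ = _ * _).symm
  have hle : Nat.card H ≤ 2 := by
    have := Nat.card_le_card_of_injective (fun k : H => decide (k = 1)) fun k k' hkk => by
      simp only [decide_eq_decide] at hkk
      by_cases hk : k = 1
      · rw [hk, hkk.1 hk]
      · exact Subtype.ext (Subtype.ext ((hmem k hk).trans (hmem k' fun he => hk (hkk.2 he)).symm))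
    simpa using this
  have h2 : Nat.card H = 2 := le_antisymm hle (Nat.le_of_dvd Nat.card_pos h2H)
  refine ⟨h2, (Nat.prime_dvd_prime_iff_eq hl Nat.prime_three).1 ?_⟩
  rwa [h2] at hld

theorem Extra.card_fix_eq (e : Extra S p u X T) (b : Base S r u Y) (h : Setup S p) (d : Data S p r R) :
    Nat.card (Fix X) = 3 := by
  rw [e.card_fix b h d, (e.card_ker_centralizer b h d).1]

/-- The kernel is the Sylow subgroup and there are `q + 1` points. -/
theorem Extra.card_points (e : Extra S p u X T) (b : Base S r u Y) (h : Setup S p) (d : Data S p r R) :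
    Nat.card (G ⧸ Mn S) = Nat.card (S : Subgroup G) + 1 ∧
      Nat.card (act S).ker = Nat.card (S : Subgroup G) := by
  classical
  haveI : Fact (Nat.Prime 2) := ⟨Nat.prime_two⟩
  haveI : Fact (Nat.Prime 3) := ⟨Nat.prime_three⟩
  have hp3 := (e.card_ker_centralizer b h d).2
  have hrp := e.r_ne b h d
  haveI := Fintype.ofFinite (G ⧸ Mn S)
  have hn : Nat.card (G ⧸ Mn S) = Nat.card (act S).ker + 1 := by
    rw [← b.card_others h d hrp, ← Nat.card_congr (Equiv.sumCompl fun a : G ⧸ Mn S => a ≠ QuotientGroup.mk 1),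
      Nat.card_sum]
    congr 1
    rw [show Nat.card {a : G ⧸ Mn S // ¬ a ≠ QuotientGroup.mk 1} = Nat.card {a : G ⧸ Mn S // a = QuotientGroup.mk 1}
      from Nat.card_congr (Equiv.subtypeEquivRight fun a => not_not)]
    simp
  -- `3` does not divide the kernel
  have h3 : ¬ 3 ∣ Nat.card (act S).ker := by
    intro hd
    have hP : IsPGroup 3 (zpowers (X : G)) :=
      IsPGroup.of_card (n := 1) (by rw [Nat.card_zpowers, e.order, hp3, pow_one])
    have h1 := hP.card_modEq_card_fixedPoints (G ⧸ Mn S)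
    have h2 : Nat.card (MulAction.fixedPoints (zpowers (X : G)) (G ⧸ Mn S)) = 3 := by
      rw [← e.card_fix_eq b h d]
      refine Nat.card_congr (Equiv.subtypeEquivRight fun a => ⟨fun ha => ha ⟨_, mem_zpowers _⟩, ?_⟩)
      intro ha g
      exact MulAction.mem_stabilizer_iff.1 (zpowers_le.2 (MulAction.mem_stabilizer_iff.2 ha) g.2)
    rw [hn, h2, Nat.ModEq] at h1
    obtain ⟨m, hm⟩ := hd
    omega
  have hker2 : IsPGroup 2 (act S).ker := IsPGroup.of_card (n := (Nat.card (act S).ker).primeFactorsList.length)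
    (Nat.eq_prime_pow_of_unique_prime_dvd Nat.card_pos.ne' fun {q} hq hqd => by
      by_contra hq2
      haveI := Fact.mk hq
      obtain ⟨⟨z, hz⟩, hzo⟩ := exists_prime_orderOf_dvd_card' q hqd
      rw [orderOf_mk, ← orderOf_coe] at hzo
      have := h.eq_p_of_not_free z.2 (fun hf => h.free_act_ne_one hf (MonoidHom.mem_ker.1 hz))
        (hzo ▸ hq.odd_of_ne_two hq2) fun h1 => hq.ne_one (by rw [← hzo, h1, orderOf_one])
      rw [hzo, hp3] at this
      exact h3 (this ▸ hqd))
  have hS : (act S).ker = ((S : Subgroup G)).subgroupOf (Mn S) := by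
    ext k
    refine ⟨fun hk => ?_, fun hk => ?_⟩
    · obtain ⟨j, hj⟩ := IsPGroup.iff_orderOf.1 hker2 ⟨k, hk⟩
      rw [orderOf_mk, ← orderOf_coe] at hj
      exact mem_sylow_of_normalizes S k.2 hj
    · obtain ⟨j, hj⟩ := IsPGroup.iff_orderOf.1 S.isPGroup' ⟨(k : G), mem_subgroupOf.1 hk⟩
      rw [← orderOf_coe] at hj
      exact MonoidHom.mem_ker.2 (h.act_two hj)
  have hc : Nat.card (act S).ker = Nat.card (S : Subgroup G) := by
    rw [hS]
    exact Nat.card_congr (subgroupOfEquivOfLe le_normalizer).toEquiv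
  exact ⟨by rw [hn, hc], hc⟩

/-- The normaliser has order not divisible by nine. -/
theorem Extra.not_nine (e : Extra S p u X T) (b : Base S r u Y) (h : Setup S p) (d : Data S p r R) :
    ¬ 9 ∣ Nat.card (Mn S) := by
  classical
  haveI : Fact (Nat.Prime 3) := ⟨Nat.prime_three⟩
  haveI := Fact.mk d.prime
  intro hd
  have hp3 := (e.card_ker_centralizer b h d).2
  have hrp := e.r_ne b h d
  obtain ⟨V, hV⟩ := Sylow.exists_subgroup_card_pow_prime (G := Mn S) (n := 2) 3 (by simpa using hd)
  have hVc := IsPGroup.isMulCommutative_of_card_eq_prime_sq (G := V) (p := 3) hV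
  have hVo : ∀ v : V, v ≠ 1 → orderOf ((v : Mn S) : G) = 3 := fun v hv => by
    have h1 : orderOf ((v : Mn S) : G) ∣ 9 := by
      rw [orderOf_coe, orderOf_coe, show (9 : ℕ) = Nat.card V by rw [hV]; norm_num]
      exact orderOf_dvd_natCard v
    have h2 := h.twoP.odd_prime _ ((by decide : Odd 9).of_dvd_nat h1) fun e1 =>
      hv (Subtype.ext (Subtype.ext e1))
    exact (Nat.prime_dvd_prime_iff_eq h2 Nat.prime_three).1 (h2.dvd_of_dvd_pow (show _ ∣ 3 ^ 2 from h1))
  have hne : ∀ v : V, v ≠ 1 → act S v ≠ 1 := fun v hv h1 => by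
    have h2 : orderOf (v : Mn S) ∣ Nat.card (act S).ker := Subgroup.orderOf_dvd_natCard _ (MonoidHom.mem_ker.2 h1)
    rw [← orderOf_coe, hVo v hv, (e.card_points b h d).2] at h2
    obtain ⟨k, hk⟩ := (haveI : Fact (Nat.Prime 2) := ⟨Nat.prime_two⟩; IsPGroup.iff_card.1 S.isPGroup')
    rw [hk] at h2
    exact absurd (Nat.prime_three.dvd_of_dvd_pow h2) (by norm_num)
  have hfix : ∀ v : V, ∃ s : (S : Subgroup G), s ≠ 1 ∧ act S v s = s := fun v => by
    by_cases hv : v = 1
    · obtain ⟨s, hs, hs1⟩ := h.exists_ne_one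
      exact ⟨⟨s, hs⟩, fun h1 => hs1 (congrArg Subtype.val h1), by rw [hv]; simp⟩
    · have hnf : ¬ Free S ((v : Mn S) : G) := fun hf => hrp (by
        rw [← h.free_order_eq d hf, hVo v hv, hp3])
      simp only [Free, (v : Mn S).2, true_and, not_forall, not_not] at hnf
      obtain ⟨s, hs, hs1, hc⟩ := hnf
      exact ⟨⟨s, hs⟩, fun h1 => hs1 (congrArg Subtype.val h1), (act_fix _ _).2 hc⟩
  -- a common fixed involution
  obtain ⟨v₀, hv₀⟩ : ∃ v : V, v ≠ 1 := by
    haveI : Nontrivial V := Finite.one_lt_card_iff_nontrivial.1 (by rw [hV]; norm_num)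
    exact exists_ne 1
  obtain ⟨s₀, hs₀, hvs₀⟩ := hfix v₀
  have hall : ∀ v : V, act S v s₀ = s₀ := fun v => by
    refine b.unique_fix h d (hne v₀ hv₀) hs₀ (fun h1 => hs₀ ((MulEquiv.map_eq_one_iff _).1 h1)) hvs₀ ?_
    have h1 := congrArg (fun w : V => act S (w : Mn S) s₀) (hVc.is_comm.comm v₀ v)
    simp only [Subgroup.coe_mul, map_mul, MulAut.mul_apply] at h1
    rw [h1, hvs₀]
  -- the action on `R`
  have hmem : ∀ v : V, act S v ∈ normalizer (R : Set (MulAut (S : Subgroup G))) := fun v =>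
    mem_normalizer_iff.2 fun f => ⟨fun hf => d.normal _ f hf, fun hf => by
      have := d.normal ((v : Mn S)⁻¹) _ hf
      rwa [map_inv, inv_inv, show (act S v)⁻¹ * (act S v * f * (act S v)⁻¹) * act S v = f by group] at this⟩
  let ψ : V →* MulAut R :=
    R.normalizerMonoidHom.comp (((act S).comp V.subtype).codRestrict _ hmem)
  have hψ : Function.Injective ψ := by
    rw [injective_iff_map_eq_one]
    intro v hv
    by_contra hv1
    refine hne v hv1 (b.act_eq_one h d (fun f hf => ?_) hs₀ (hall v))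
    have h1 := congrArg (fun e : MulAut R => ((e ⟨f, hf⟩ : R) : MulAut (S : Subgroup G))) hv
    exact (mul_inv_eq_iff_eq_mul.1 (show act S v * f * (act S v)⁻¹ = f from h1) : _)
  haveI : IsCyclic R := isCyclic_of_prime_card d.card_R
  haveI : IsCyclic (MulAut R) := by
    have e1 := IsCyclic.mulAutMulEquiv R
    rw [d.card_R] at e1
    exact isCyclic_of_injective e1.toMonoidHom e1.injective
  obtain ⟨g, hg⟩ := (isCyclic_of_injective ψ hψ).exists_ofOrder_eq_natCard
  rw [hV] at hg
  have hg1 : g ≠ 1 := fun h1 => by rw [h1, orderOf_one] at hg; norm_num at hg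
  have := hVo g hg1
  rw [orderOf_coe, orderOf_coe, hg] at this
  norm_num at this

end H59.OneComp
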