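import Cfsg.Agent.H59.OneComp.Count
import Cfsg.Agent.H66.FeitPrimePow
import Cfsg.Agent.H6.Basic

/-!
The strongly embedded action: the kernel of the automiser is regular on the points other than its
own, and the two-point stabiliser.
-/

set_option autoImplicit false
set_option linter.style.haveILetI false
set_option linter.unusedSectionVars false

namespace H59.OneComp

open Subgroup

variable {G : Type*} [Group G] [Finite G] {p r : ℕ} {S : Sylow 2 G}
variable {R : Subgroup (MulAut (S : Subgroup G))}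

/-- A pair of points with a good element in the stabiliser of both. -/
structure Base (S : Sylow 2 G) (r : ℕ) (u : G) (Y : Mn S) : Prop where
  invol : orderOf u = 2
  notMem : u ∉ Mn S
  good : Good r (Y : G)
  both : u⁻¹ * Y * u ∈ Mn S

theorem base_smul_iff {S : Sylow 2 G} {g : G} :
    g • (QuotientGroup.mk 1 : G ⧸ Mn S) = QuotientGroup.mk 1 ↔ g ∈ Mn S := by
  rw [H65.smul_coset_eq_iff, inv_one, one_mul, mul_one]

theorem Setup.exists_base (h : Setup S p) (d : Data S p r R) : ∃ u Y, Base S r u Y := by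
  obtain ⟨u, hu, huM⟩ := H67.se_exists_invol_not_mem h.se
  obtain ⟨y, hy1, hyM, hi⟩ := h.exists_inv hu huM
  refine ⟨u, ⟨y, hyM⟩, hu, huM, h.good_of_inverted d hu huM hyM hi hy1, ?_⟩
  have hu' : u⁻¹ = u := inv_eq_of_mul_eq_one_right (invol_sq hu)
  rw [hu'] at hi ⊢
  rw [hi]
  exact inv_mem hyM

variable {u : G} {Y : Mn S}

theorem Base.ne (b : Base S r u Y) :
    (QuotientGroup.mk 1 : G ⧸ Mn S) ≠ QuotientGroup.mk u := fun e => b.notMem (by
  simpa using QuotientGroup.eq.1 e)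

theorem Base.fix_base (b : Base S r u Y) :
    (Y : G) • (QuotientGroup.mk 1 : G ⧸ Mn S) = QuotientGroup.mk 1 :=
  base_smul_iff.2 Y.2

theorem Base.fix_other (b : Base S r u Y) :
    (Y : G) • (QuotientGroup.mk u : G ⧸ Mn S) = QuotientGroup.mk u :=
  H65.smul_coset_eq_iff.2 b.both

theorem Base.act_mem (b : Base S r u Y) (d : Data S p r R) (h : Setup S p) :
    act S Y ∈ R ∧ act S Y ≠ 1 :=
  (d.free_iff Y).1 ⟨Y.2, fun s hs hs1 hc => b.good.2 s (h.invol_of_mem hs hs1) hc⟩

theorem Base.zpowers_act (b : Base S r u Y) (d : Data S p r R) (h : Setup S p) :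
    zpowers (act S Y) = R :=
  eq_of_le_of_card_ge (zpowers_le.2 (b.act_mem d h).1) (by
    rw [d.card_R, Nat.card_zpowers]
    rcases (Nat.dvd_prime d.prime).1 (d.card_R ▸ Subgroup.orderOf_dvd_natCard R (b.act_mem d h).1)
      with h1 | h1
    · exact absurd (orderOf_eq_one_iff.1 h1) (b.act_mem d h).2
    · rw [h1])

theorem Base.two_fixed (b : Base S r u Y) (h : Setup S p) (d : Data S p r R) :
    (∀ x : G ⧸ Mn S, (Y : G) • x = x → x = QuotientGroup.mk 1 ∨ x = QuotientGroup.mk u) ∧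
      centralizer ({(Y : G)} : Set G) = zpowers (Y : G) :=
  b.good.two_points h d b.ne b.fix_base b.fix_other

/-- An element of both point stabilisers with image in `R` is a power of the good element. -/
theorem Base.eq_zpow (b : Base S r u Y) (h : Setup S p) (d : Data S p r R) {z : Mn S}
    (hz : u⁻¹ * z * u ∈ Mn S) (hzR : act S z ∈ R) : ∃ i : ℤ, z = Y ^ i := by
  rw [← b.zpowers_act d h] at hzR
  obtain ⟨i, hi⟩ := hzR
  refine ⟨i, mul_inv_eq_one.1 (d.inj u b.invol b.notMem _ ?_ ?_)⟩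
  · rw [Subgroup.coe_mul, Subgroup.coe_inv, Subgroup.coe_zpow,
      show u⁻¹ * ((z : G) * ((Y : G) ^ i)⁻¹) * u = (u⁻¹ * z * u) * (u⁻¹ * (Y : G) ^ i * u⁻¹⁻¹)⁻¹ by
        group, ← conj_zpow, inv_inv]
    exact mul_mem hz (inv_mem (zpow_mem b.both i))
  · simp only at hi
    rw [map_mul, map_inv, map_zpow, hi, mul_inv_cancel]

theorem Base.normalizes (b : Base S r u Y) (h : Setup S p) (d : Data S p r R) {z : Mn S}
    (hz : u⁻¹ * z * u ∈ Mn S) : ∃ i : ℤ, z * Y * z⁻¹ = Y ^ i := by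
  refine b.eq_zpow h d ?_ ?_
  · rw [Subgroup.coe_mul, Subgroup.coe_mul, Subgroup.coe_inv,
      show u⁻¹ * ((z : G) * Y * (z : G)⁻¹) * u = (u⁻¹ * z * u) * (u⁻¹ * Y * u) * (u⁻¹ * z * u)⁻¹ by group]
    exact mul_mem (mul_mem hz b.both) (inv_mem hz)
  · rw [map_mul, map_mul, map_inv]
    exact d.normal z _ (b.act_mem d h).1

theorem Base.mem_both_of_normalizes (b : Base S r u Y) (h : Setup S p) (d : Data S p r R) {z : Mn S}
    {i : ℤ} (hz : (z : G)⁻¹ * Y * z = (Y : G) ^ i) : u⁻¹ * z * u ∈ Mn S := by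
  have hfix : ∀ j : ℤ, (Y : G) ^ j • (QuotientGroup.mk u : G ⧸ Mn S) = QuotientGroup.mk u := fun j =>
    MulAction.mem_stabilizer_iff.1 (zpow_mem (MulAction.mem_stabilizer_iff.2 b.fix_other) j)
  have h1 : (Y : G) • ((z : G) • (QuotientGroup.mk u : G ⧸ Mn S)) =
      (z : G) • QuotientGroup.mk u := by
    conv_lhs => rw [← mul_smul, show (Y : G) * z = z * ((z : G)⁻¹ * Y * z) by group, hz, mul_smul, hfix]
  rcases (b.two_fixed h d).1 _ h1 with h2 | h2
  · exact absurd (((MulAction.injective (z : G)) (h2.trans (base_smul_iff.2 z.2).symm))) b.ne.symm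
  · exact H65.smul_coset_eq_iff.1 h2

/-- `r ≠ p`, as some element of order `p` centralises an involution. -/
theorem Base.r_ne (b : Base S r u Y) (h : Setup S p) (d : Data S p r R)
    (hx : ∃ t x : G, orderOf t = 2 ∧ orderOf x = p ∧ Commute x t) : r ≠ p := by
  intro hrp
  haveI := Fact.mk h.twoP.prime
  obtain ⟨t, x, ht, hx, hc⟩ := hx
  obtain ⟨g, hgt, hgt1⟩ := h.conj_into ht
  set x' := g * x * g⁻¹
  have hc' : Commute x' (g * t * g⁻¹) := hc.map (MulAut.conj g).toMonoidHom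
  have hx'M : x' ∈ Mn S := h.cent _ hgt hgt1 (mem_centralizer_singleton_iff.2 hc'.eq)
  set X : Mn S := ⟨x', hx'M⟩
  have hXo : orderOf X = p := by
    rw [← orderOf_coe, show (X : G) = MulAut.conj g x from rfl, MulEquiv.orderOf_eq, hx]
  have hX1 : act S X = 1 :=
    by_contra fun hne => ((d.free_iff X).2 ⟨d.full hrp X, hne⟩).2 _ hgt hgt1 hc'
  have hker : p ∣ Nat.card (act S).ker := hXo ▸ (Subgroup.orderOf_dvd_natCard _ (MonoidHom.mem_ker.2 hX1))
  have hran : p ∣ Nat.card (act S).range := by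
    have hle : R ≤ (act S).range := by
      rw [← b.zpowers_act d h, zpowers_le]; exact ⟨Y, rfl⟩
    have := card_dvd_of_le hle
    rwa [d.card_R, hrp] at this
  have hsq : p ^ 2 ∣ Nat.card (Mn S) := by
    rw [← (act S).ker.card_mul_index, index_ker, sq]
    exact mul_dvd_mul hker hran
  have hYo : orderOf Y = p := by rw [← orderOf_coe, b.good.1, hrp]
  obtain ⟨P, hP⟩ := (IsPGroup.of_card (p := p) (n := 1)
    (by rw [Nat.card_zpowers, hYo, pow_one]) : IsPGroup p (zpowers Y)).exists_le_sylow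
  have hne : zpowers Y ≠ (P : Subgroup (Mn S)) := by
    intro e
    have h1 : p ^ 2 ∣ Nat.card (P : Subgroup (Mn S)) := by
      refine Nat.Coprime.dvd_of_dvd_mul_right ?_ ((P : Subgroup (Mn S)).card_mul_index.symm ▸ hsq)
      exact ((h.twoP.prime.coprime_iff_not_dvd).2 P.not_dvd_index).pow_left 2
    rw [← e, Nat.card_zpowers, hYo] at h1
    have := Nat.le_of_dvd h.twoP.prime.pos h1
    have := h.twoP.prime.two_le
    nlinarith
  obtain ⟨a, haP, haY, haN⟩ := H65.exists_normalizing_not_mem P.isPGroup' hP hne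
  obtain ⟨i, hi⟩ := (mem_normalizer_iff.1 (inv_mem haN) Y).1 (mem_zpowers Y)
  have hai : (a : G)⁻¹ * Y * a = (Y : G) ^ i := by
    have := (congrArg Subtype.val hi).symm
    simpa using this
  obtain ⟨j, hj⟩ := b.eq_zpow h d (b.mem_both_of_normalizes h d hai) (d.full hrp a)
  exact haY (hj ▸ zpow_mem (mem_zpowers Y) j)

/-- The action kernel has no elements of order `r`. -/
theorem Setup.not_dvd_ker (h : Setup S p) (d : Data S p r R) (hrp : r ≠ p) :
    ¬ r ∣ Nat.card (act S).ker := by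
  intro hd
  haveI := Fact.mk d.prime
  obtain ⟨⟨z, hz⟩, hzo⟩ := exists_prime_orderOf_dvd_card' r hd
  rw [orderOf_mk] at hzo
  have hf : ¬ Free S (z : G) := fun hf => h.free_act_ne_one hf (MonoidHom.mem_ker.1 hz)
  rw [← orderOf_coe] at hzo
  exact hrp (hzo.symm.trans (h.eq_p_of_not_free z.2 hf (hzo ▸ d.odd_r h) fun e => by
    rw [e, orderOf_one] at hzo
    exact d.prime.ne_one hzo.symm))

/-- The kernel is transitive on the other points. -/
theorem Base.transitive (b : Base S r u Y) (h : Setup S p) (d : Data S p r R) (hrp : r ≠ p)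
    {x : G ⧸ Mn S} (hx : x ≠ QuotientGroup.mk 1) :
    ∃ k : Mn S, act S k = 1 ∧ (k : G) • (QuotientGroup.mk u : G ⧸ Mn S) = x := by
  haveI := Fact.mk d.prime
  -- a good element fixing `x`
  obtain ⟨i, hi, hix⟩ := h.exists_moving_invol hx.symm
  have hiM : i ∉ Mn S := fun hm => hx (hix.symm.trans (base_smul_iff.2 hm))
  obtain ⟨y', hy'1, hy'M, hy'i⟩ := h.exists_inv hi hiM
  have hy'g := h.good_of_inverted d hi hiM hy'M hy'i hy'1
  have hi' : i⁻¹ = i := inv_eq_of_mul_eq_one_right (invol_sq hi)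
  have hy'x : y' • x = x := by
    rw [← hix, ← mul_smul,
      show y' * i = i * y'⁻¹ from by
        have h2 : i * y'⁻¹ * i⁻¹ = y' := by rw [← conj_inv, hy'i, inv_inv]
        exact (mul_inv_eq_iff_eq_mul.1 h2).symm,
      mul_smul, base_smul_iff.2 (inv_mem hy'M)]
  set Y' : Mn S := ⟨y', hy'M⟩
  -- the Sylow subgroups of the preimage of `R`
  set L := R.comap (act S)
  have hL : ¬ r ^ 2 ∣ Nat.card L := by
    intro hd
    obtain ⟨V, hV⟩ := Sylow.exists_subgroup_card_pow_prime r hd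
    set ψ := ((act S).comp (L.subtype.comp V.subtype))
    have hψ : Function.Injective ψ := by
      rw [injective_iff_map_eq_one]
      intro v hv
      by_contra hv1
      have h1 : orderOf v ∣ r ^ 2 := hV ▸ orderOf_dvd_natCard v
      obtain ⟨j, -, hj⟩ := (Nat.dvd_prime_pow d.prime).1 h1
      have hj0 : j ≠ 0 := fun e => hv1 (orderOf_eq_one_iff.1 (by rw [hj, e, pow_zero]))
      refine h.not_dvd_ker d hrp ((dvd_trans ?_ (Subgroup.orderOf_dvd_natCard _
        (show ((v : L) : Mn S) ∈ (act S).ker from MonoidHom.mem_ker.2 hv))))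
      rw [orderOf_coe, orderOf_coe, hj]
      exact dvd_pow_self r hj0
    have h2 := card_dvd_of_le (show ψ.range ≤ R by rintro _ ⟨v, rfl⟩; exact (v : L).2)
    rw [← Nat.card_congr (MonoidHom.ofInjective hψ).toEquiv, hV, d.card_R, sq] at h2
    have := Nat.le_of_dvd d.prime.pos h2
    have := d.prime.two_le
    nlinarith
  have hsyl : ∀ Z : L, orderOf Z = r → ∃ P : Sylow r L, (P : Subgroup L) = zpowers Z := by
    intro Z hZ
    obtain ⟨P, hP⟩ := (IsPGroup.of_card (p := r) (n := 1)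
      (by rw [Nat.card_zpowers, hZ, pow_one]) : IsPGroup r (zpowers Z)).exists_le_sylow
    refine ⟨P, (eq_of_le_of_card_ge hP ?_).symm⟩
    obtain ⟨j, hj⟩ := IsPGroup.iff_card.1 P.isPGroup'
    rw [Nat.card_zpowers, hZ, hj]
    have : j ≤ 1 := by
      by_contra hlt
      exact hL ((pow_dvd_pow r (show 2 ≤ j by omega)).trans (hj ▸ card_subgroup_dvd_card _))
    calc r ^ j ≤ r ^ 1 := Nat.pow_le_pow_right d.prime.pos this
      _ = r := pow_one r
  have hY'R : act S Y' ∈ R := ((d.free_iff Y').1 ⟨hy'M, fun s hs hs1 hc =>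
    hy'g.2 s (h.invol_of_mem hs hs1) hc⟩).1
  obtain ⟨P₁, hP₁⟩ := hsyl ⟨Y, (b.act_mem d h).1⟩ (by rw [← orderOf_coe, ← orderOf_coe]; exact b.good.1)
  obtain ⟨P₂, hP₂⟩ := hsyl ⟨Y', hY'R⟩ (by rw [← orderOf_coe, ← orderOf_coe]; exact hy'g.1)
  obtain ⟨l, hl⟩ := MulAction.exists_smul_eq L P₁ P₂
  have hmem : (⟨Y', hY'R⟩ : L) ∈ ((l • P₁ : Sylow r L) : Subgroup L) := by
    rw [hl, hP₂]; exact mem_zpowers _
  rw [Sylow.coe_subgroup_smul, hP₁, mem_pointwise_smul_iff_inv_smul_mem] at hmem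
  obtain ⟨j, hj⟩ := hmem
  have hj' : (Y : G) ^ j = ((l : Mn S) : G)⁻¹ * y' * ((l : Mn S) : G) := by
    have := congrArg (fun z : L => ((z : Mn S) : G)) hj
    simpa [MulAut.smul_def, Y', mul_assoc] using this
  -- the image of `u M` under `l` is fixed by `Y'`
  set lx := ((l : Mn S) : G) • (QuotientGroup.mk u : G ⧸ Mn S) with hlx
  have hfix : ∀ j : ℤ, (Y : G) ^ j • (QuotientGroup.mk u : G ⧸ Mn S) = QuotientGroup.mk u := fun j =>
    MulAction.mem_stabilizer_iff.1 (zpow_mem (MulAction.mem_stabilizer_iff.2 b.fix_other) j)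
  have h1 : y' • lx = lx := by
    rw [hlx, ← mul_smul, show y' * ((l : Mn S) : G) =
      ((l : Mn S) : G) * (((l : Mn S) : G)⁻¹ * y' * ((l : Mn S) : G)) by group, ← hj', mul_smul, hfix]
  have hlne : lx ≠ QuotientGroup.mk 1 := fun e =>
    b.ne.symm (MulAction.injective ((l : Mn S) : G) (e.trans (base_smul_iff.2 (l : Mn S).2).symm))
  have hlxx : lx = x :=
    ((hy'g.two_points h d hx.symm (base_smul_iff.2 hy'M) hy'x).1 lx h1).resolve_left hlne
  -- remove the `R` part
  obtain ⟨m, hm⟩ : act S (l : Mn S) ∈ zpowers (act S Y) := by rw [b.zpowers_act d h]; exact l.2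
  simp only at hm
  refine ⟨(l : Mn S) * (Y ^ m)⁻¹, by rw [map_mul, map_inv, map_zpow, hm, mul_inv_cancel], ?_⟩
  rw [Subgroup.coe_mul, Subgroup.coe_inv, Subgroup.coe_zpow, mul_smul,
    inv_smul_eq_iff.2 (hfix m).symm]
  exact hlxx

theorem Base.regular (b : Base S r u Y) (d : Data S p r R) {k k' : Mn S} (hk : act S k = 1)
    (hk' : act S k' = 1)
    (he : (k : G) • (QuotientGroup.mk u : G ⧸ Mn S) = (k' : G) • QuotientGroup.mk u) : k = k' := by
  refine (inv_mul_eq_one.1 (d.inj u b.invol b.notMem (k'⁻¹ * k) ?_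
    (by rw [map_mul, map_inv, hk, hk', inv_one, one_mul]))).symm
  rw [← H65.smul_coset_eq_iff, Subgroup.coe_mul, Subgroup.coe_inv, mul_smul, he, inv_smul_smul]

theorem Base.card_others (b : Base S r u Y) (h : Setup S p) (d : Data S p r R) (hrp : r ≠ p) :
    Nat.card {x : G ⧸ Mn S // x ≠ QuotientGroup.mk 1} = Nat.card (act S).ker := by
  refine (Nat.card_congr (Equiv.ofBijective (fun k : (act S).ker =>
    (⟨((k : Mn S) : G) • (QuotientGroup.mk u : G ⧸ Mn S), fun e =>
      b.ne.symm (MulAction.injective ((k : Mn S) : G) (e.trans (base_smul_iff.2 (k : Mn S).2).symm))⟩ :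
      {x : G ⧸ Mn S // x ≠ QuotientGroup.mk 1})) ⟨fun k k' hkk => ?_, fun x => ?_⟩)).symm
  · exact Subtype.ext (b.regular d k.2 k'.2 (congrArg Subtype.val hkk))
  · obtain ⟨k, hk, hkx⟩ := b.transitive h d hrp x.2
    exact ⟨⟨k, hk⟩, Subtype.ext hkx⟩

/-- Every element of the normaliser is a kernel element times one fixing both points. -/
theorem Base.exists_decomp (b : Base S r u Y) (h : Setup S p) (d : Data S p r R) (hrp : r ≠ p)
    (m : Mn S) : ∃ k z : Mn S, m = k * z ∧ act S k = 1 ∧ u⁻¹ * z * u ∈ Mn S := by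
  obtain ⟨k, hk, hkm⟩ := b.transitive h d hrp (x := (m : G) • (QuotientGroup.mk u : G ⧸ Mn S))
    fun e => b.ne.symm (MulAction.injective (m : G) (e.trans (base_smul_iff.2 m.2).symm))
  refine ⟨k, k⁻¹ * m, (mul_inv_cancel_left k m).symm, hk, ?_⟩
  rw [← H65.smul_coset_eq_iff, Subgroup.coe_mul, Subgroup.coe_inv, mul_smul, ← hkm, inv_smul_smul]

/-- If the two-point stabiliser is cyclic of order `r`, the action is a Zassenhaus action of
composite kernel order: absurd. -/
theorem Base.false_of_small [IsSimpleGroup G] (b : Base S r u Y) (h : Setup S p) (d : Data S p r R)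
    (hx : ∃ t x : G, orderOf t = 2 ∧ orderOf x = p ∧ Commute x t)
    (hsmall : ∀ z : Mn S, u⁻¹ * z * u ∈ Mn S → act S z ∈ R) : False := by
  classical
  have hrp := b.r_ne h d hx
  haveI : Fact (Nat.Prime 2) := ⟨Nat.prime_two⟩
  -- the kernel has order divisible by `2p`
  have hall : ∀ m : Mn S, act S m ∈ R := fun m => by
    obtain ⟨k, z, rfl, hk, hz⟩ := b.exists_decomp h d hrp m
    rw [map_mul, hk, one_mul]
    exact hsmall z hz
  obtain ⟨t, x, ht, hx, hc⟩ := hx
  obtain ⟨g, hgt, hgt1⟩ := h.conj_into ht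
  have hc' : Commute (g * x * g⁻¹) (g * t * g⁻¹) := hc.map (MulAut.conj g).toMonoidHom
  have hx'M : g * x * g⁻¹ ∈ Mn S := h.cent _ hgt hgt1 (mem_centralizer_singleton_iff.2 hc'.eq)
  set X : Mn S := ⟨_, hx'M⟩
  have hXk : X ∈ (act S).ker :=
    MonoidHom.mem_ker.2 (by_contra fun hne => ((d.free_iff X).2 ⟨hall X, hne⟩).2 _ hgt hgt1 hc')
  have hpk : p ∣ Nat.card (act S).ker := by
    have := Subgroup.orderOf_dvd_natCard _ hXk
    rwa [← orderOf_coe, show (X : G) = MulAut.conj g x from rfl, MulEquiv.orderOf_eq, hx] at this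
  have h2k : 2 ∣ Nat.card (act S).ker := by
    have hT : (⟨g * t * g⁻¹, le_normalizer hgt⟩ : Mn S) ∈ (act S).ker :=
      MonoidHom.mem_ker.2 (h.act_two (k := 1) (by rw [pow_one]; exact H67.invol_conj ht g))
    have := Subgroup.orderOf_dvd_natCard _ hT
    rwa [← orderOf_coe, show ((⟨g * t * g⁻¹, le_normalizer hgt⟩ : Mn S) : G) = g * t * g⁻¹ from rfl,
      H67.invol_conj ht g] at this
  -- the Zassenhaus action
  letI : Fintype (G ⧸ Mn S) := Fintype.ofFinite _
  have hmove : ∀ a c : G ⧸ Mn S, a ≠ c →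
      ∃ e : G, e • a = QuotientGroup.mk 1 ∧ e • c = QuotientGroup.mk u := by
    intro a c hac
    obtain ⟨g₁, rfl⟩ := QuotientGroup.mk_surjective a
    have hne : g₁⁻¹ • c ≠ (QuotientGroup.mk 1 : G ⧸ Mn S) := fun e => hac (by
      rw [inv_smul_eq_iff] at e
      rw [e, MulAction.Quotient.smul_coe, smul_eq_mul, mul_one])
    obtain ⟨k, -, hk⟩ := b.transitive h d hrp hne
    refine ⟨(k : G)⁻¹ * g₁⁻¹, ?_, ?_⟩
    · rw [mul_smul, MulAction.Quotient.smul_coe, smul_eq_mul, inv_mul_cancel,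
        base_smul_iff.2 (inv_mem k.2)]
    · rw [mul_smul, ← hk, inv_smul_smul]
  have hZ : Cfsg.IsZassenhausGroup G (G ⧸ Mn S) := by
    refine ⟨?_, ?_, ?_, ⟨Y, b.good.ne_one h d, _, _, b.ne, b.fix_base, b.fix_other⟩, ?_⟩
    · have hker : (MulAction.toPermHom G (G ⧸ Mn S)).ker = ⊥ := by
        refine (IsSimpleGroup.eq_bot_or_eq_top_of_normal _ (MonoidHom.normal_ker _)).resolve_right
          fun e => ?_
        rw [← Subgroup.normalCore_eq_ker] at e
        exact h.se.1 (eq_top_iff.2 (e ▸ normalCore_le _))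
      exact ⟨fun {a c} hac => (MonoidHom.ker_eq_bot_iff _).1 hker (Equiv.ext hac)⟩
    · rw [MulAction.is_two_pretransitive_iff]
      intro a c a' c' hac hac'
      obtain ⟨e₁, h1, h2⟩ := hmove a c hac
      obtain ⟨e₂, h3, h4⟩ := hmove a' c' hac'
      exact ⟨e₂⁻¹ * e₁, by rw [mul_smul, h1, ← h3, inv_smul_smul],
        by rw [mul_smul, h2, ← h4, inv_smul_smul]⟩
    · intro e a c c₂ hac hcc₂ hac₂ ha hc hc₂
      obtain ⟨f, hfa, hfc⟩ := hmove a c hac
      by_contra he1
      have hconj : ∀ q : G ⧸ Mn S, e • q = q → (f * e * f⁻¹) • (f • q) = f • q := fun q hq => by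
        rw [mul_smul, inv_smul_smul, mul_smul, hq]
      have h1 := hconj a ha
      rw [hfa, base_smul_iff] at h1
      have h2 := hconj c hc
      rw [hfc, H65.smul_coset_eq_iff] at h2
      obtain ⟨i, hi⟩ := b.eq_zpow h d (z := ⟨_, h1⟩) h2 (hsmall ⟨_, h1⟩ h2)
      have hi' : f * e * f⁻¹ = (Y : G) ^ i := by simpa using congrArg Subtype.val hi
      have hne : (Y : G) ^ i ≠ 1 := fun h0 => he1 (conj_eq_one_iff.1 (hi'.trans h0))
      -- `Y` fixes a third point
      have hdvd : ¬ (r : ℤ) ∣ i := fun hd => hne (orderOf_dvd_iff_zpow_eq_one.1 (by rwa [b.good.1]))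
      obtain ⟨j, hj⟩ : ∃ j : ℤ, ((Y : G) ^ i) ^ j = Y := by
        obtain ⟨a', b', hab⟩ := (Nat.prime_iff_prime_int.1 d.prime).coprime_iff_not_dvd.2 hdvd
        refine ⟨b', ?_⟩
        have h3 : (Y : G) ^ (a' * (r : ℤ) + b' * i) = Y := by rw [hab, zpow_one]
        rwa [zpow_add, mul_comm a', zpow_mul, zpow_natCast, ← b.good.1, pow_orderOf_eq_one,
          one_zpow, one_mul, mul_comm b', zpow_mul] at h3
      have h3 : (Y : G) • (f • c₂) = f • c₂ := by
        rw [← hj]
        exact MulAction.mem_stabilizer_iff.1 (zpow_mem (MulAction.mem_stabilizer_iff.2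
          (hi' ▸ hconj c₂ hc₂)) j)
      rcases (b.two_fixed h d).1 _ h3 with h4 | h4
      · exact hac₂ (MulAction.injective f (hfa.trans h4.symm))
      · exact hcc₂ (MulAction.injective f (hfc.trans h4.symm))
    · intro K hK htr
      rcases hK.eq_bot_or_eq_top with rfl | rfl
      · obtain ⟨k, hk⟩ := htr.exists_smul_eq (QuotientGroup.mk 1) (QuotientGroup.mk u)
        obtain rfl : k = 1 := Subsingleton.elim _ _
        exact absurd ((one_smul G _).symm.trans hk) b.ne
      · refine ⟨QuotientGroup.mk 1, fun e => ?_⟩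
        have h1 : (⟨(Y : G), mem_top _⟩ : (⊤ : Subgroup G)) ∈ (⊥ : Subgroup (⊤ : Subgroup G)) :=
          e ▸ MulAction.mem_stabilizer_iff.2 b.fix_base
        rw [Subgroup.mem_bot] at h1
        exact b.good.ne_one h d (congrArg Subtype.val h1)
  have hp := H66.Feit.isPrimePow_degree hZ
  have hc : Fintype.card (G ⧸ Mn S) - 1 = Nat.card (act S).ker := by
    rw [← b.card_others h d hrp, Nat.card_eq_fintype_card, Fintype.card_subtype_compl,
      Fintype.card_subtype_eq]
  rw [hc] at hp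
  obtain ⟨l, n, hl, -, hln⟩ := (isPrimePow_nat_iff _).1 hp
  have e2 := (Nat.prime_dvd_prime_iff_eq Nat.prime_two hl).1 (Nat.prime_two.dvd_of_dvd_pow (hln ▸ h2k))
  have ep := (Nat.prime_dvd_prime_iff_eq h.twoP.prime hl).1 (h.twoP.prime.dvd_of_dvd_pow (hln ▸ hpk))
  exact h.twoP.ne_two (ep.trans e2.symm)

end H59.OneComp
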