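import Cfsg.Agent.H59.OneComp.Free
import Cfsg.Agent.H1.Hall
import Cfsg.Agent.H2.FPFSubgroup
import Cfsg.Agent.H33.HalfTransitive

/-!
The automiser of the Sylow 2-subgroup: a normal subgroup of prime order `q - 1` containing the
images of all free elements.
-/

set_option autoImplicit false
set_option linter.style.haveILetI false
set_option linter.unusedSectionVars false

namespace H59.OneComp

open Subgroup

/-- A group of odd order of automorphisms of an exponent-two group, normalised by a fixed-point-free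
automorphism of prime order whose centraliser in it is trivial, is trivial. -/
theorem eq_bot_of_fpf {W : Type*} [CommGroup W] (hW : ∀ w : W, w * w = 1)
    (V : Subgroup (MulAut W)) [Finite V] (hodd : Odd (Nat.card V)) {a : MulAut W} {l : ℕ}
    (hl : l.Prime) (ha : orderOf a = l) (hnorm : ∀ f ∈ V, a * f * a⁻¹ ∈ V)
    (hfix : ∀ w, a w = w → w = 1) (hC : ∀ f ∈ V, Commute f a → f = 1) : V = ⊥ := by
  classical
  haveI := Fintype.ofFinite V
  have hnormi : ∀ (i : ℕ), ∀ f ∈ V, a ^ i * f * (a ^ i)⁻¹ ∈ V := by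
    intro i
    induction i with
    | zero => intro f hf; simpa using hf
    | succ i ih =>
      intro f hf
      have := hnorm _ (ih f hf)
      rwa [show a ^ (i + 1) * f * (a ^ (i + 1))⁻¹ = a * (a ^ i * f * (a ^ i)⁻¹) * a⁻¹ by
        rw [pow_succ']; group]
  have hbij : ∀ i : ℕ, i < l → i ≠ 0 → ∃ φ : V ≃ V, ∀ f : V,
      (φ f : MulAut W) = f * a ^ i * (f : MulAut W)⁻¹ * (a ^ i)⁻¹ := by
    intro i hil hi0
    let φ : V → V := fun f => ⟨f * a ^ i * (f : MulAut W)⁻¹ * (a ^ i)⁻¹, by
      rw [mul_assoc, mul_assoc, ← mul_assoc (a ^ i)]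
      exact V.mul_mem f.2 (hnormi i _ (V.inv_mem f.2))⟩
    have hinj : Function.Injective φ := by
      intro f g hfg
      have h1 : (f : MulAut W) * a ^ i * (f : MulAut W)⁻¹ = g * a ^ i * (g : MulAut W)⁻¹ :=
        mul_right_cancel (congrArg Subtype.val hfg)
      have h2 : Commute ((g : MulAut W)⁻¹ * f) (a ^ i) := by
        show (g : MulAut W)⁻¹ * f * a ^ i = a ^ i * ((g : MulAut W)⁻¹ * f)
        calc (g : MulAut W)⁻¹ * f * a ^ i
            = (g : MulAut W)⁻¹ * (f * a ^ i * (f : MulAut W)⁻¹) * f := by group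
          _ = (g : MulAut W)⁻¹ * (g * a ^ i * (g : MulAut W)⁻¹) * f := by rw [h1]
          _ = _ := by group
      have hcop : Nat.Coprime i l := (hl.coprime_iff_not_dvd.2 fun hd => by
        have := Nat.le_of_dvd (by omega) hd; omega).symm
      obtain ⟨j, -, hj⟩ := Nat.exists_mul_mod_eq_one_of_coprime hcop hl.one_lt
      have h3 := h2.pow_right j
      rw [← pow_mul, ← pow_mod_orderOf, ha, hj, pow_one] at h3
      have := hC _ (V.mul_mem (V.inv_mem g.2) f.2) h3
      exact Subtype.ext (inv_mul_eq_one.1 this).symm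
    exact ⟨Equiv.ofBijective φ (Finite.injective_iff_bijective.1 hinj), fun f => rfl⟩
  -- the product over `V`
  let X : W → W := fun v => ∏ e : V, (e : MulAut W) v
  have hXfix : ∀ (e : V) v, (e : MulAut W) (X v) = X v := by
    intro e v
    simp only [X, map_prod]
    exact Fintype.prod_equiv (Equiv.mulLeft e) _ _ fun f => rfl
  have hodd' : ∀ v : W, v ^ Nat.card V = v := fun v => by
    obtain ⟨k, hk⟩ := hodd
    rw [hk, pow_succ, pow_mul, sq, hW, one_pow, one_mul]
  have hX : ∀ v, X v = v := by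
    intro v
    have h1 : ∀ f : V, ∏ i ∈ Finset.range l, ((f : MulAut W) * a ^ i * (f : MulAut W)⁻¹) v = 1 := by
      intro f
      set w := (f : MulAut W)⁻¹ v
      have h2 : ∀ i : ℕ, ((f : MulAut W) * a ^ i * (f : MulAut W)⁻¹) v = (f : MulAut W) ((a ^ i) w) :=
        fun i => rfl
      simp only [h2, ← map_prod]
      have h3 : ∏ i ∈ Finset.range l, (a ^ i) w = 1 := by
        refine hfix _ ?_
        rw [map_prod]
        calc ∏ i ∈ Finset.range l, a ((a ^ i) w) = ∏ i ∈ Finset.range l, (a ^ (i + 1)) w :=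
              Finset.prod_congr rfl fun i _ => by rw [pow_succ']; rfl
          _ = ∏ i ∈ Finset.range l, (a ^ i) w := by
            have h4 := Finset.prod_range_succ' (fun i => (a ^ i) w) l
            have h5 := Finset.prod_range_succ (fun i => (a ^ i) w) l
            rw [h4] at h5
            simp only [pow_zero, MulAut.one_apply] at h5
            rw [show (a ^ l) w = w by rw [← ha, pow_orderOf_eq_one]; rfl] at h5
            exact mul_right_cancel h5
      rw [h3, map_one]
    have h2 : ∏ f : V, ∏ i ∈ Finset.range l, ((f : MulAut W) * a ^ i * (f : MulAut W)⁻¹) v = 1 :=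
      Finset.prod_eq_one fun f _ => h1 f
    rw [Finset.prod_comm] at h2
    have h3 : ∀ i ∈ Finset.range l, i ≠ 0 →
        ∏ f : V, ((f : MulAut W) * a ^ i * (f : MulAut W)⁻¹) v = X ((a ^ i) v) := by
      intro i hi hi0
      obtain ⟨φ, hφ⟩ := hbij i (Finset.mem_range.1 hi) hi0
      refine Fintype.prod_equiv φ _ _ fun f => ?_
      show ((f : MulAut W) * a ^ i * (f : MulAut W)⁻¹) v = ((φ f : MulAut W) * a ^ i) v
      rw [hφ, inv_mul_cancel_right]
    obtain ⟨m, hm⟩ := Nat.exists_eq_succ_of_ne_zero hl.ne_zero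
    rw [hm, Finset.prod_range_succ'] at h2
    have h4 : ∏ i ∈ Finset.range m,
        ∏ f : V, ((f : MulAut W) * a ^ (i + 1) * (f : MulAut W)⁻¹) v =
          X (∏ i ∈ Finset.range m, (a ^ (i + 1)) v) := by
      rw [Finset.prod_congr rfl fun i hi => h3 (i + 1)
        (Finset.mem_range.2 (by have := Finset.mem_range.1 hi; omega)) (by omega)]
      simp only [X, map_prod]
      exact Finset.prod_comm
    have h5 : ∏ i ∈ Finset.range m, (a ^ (i + 1)) v = v := by
      have h6 : ∏ i ∈ Finset.range l, (a ^ i) v = 1 := by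
        simpa using h1 1
      rw [hm, Finset.prod_range_succ', pow_zero, MulAut.one_apply] at h6
      rw [eq_inv_of_mul_eq_one_left h6, inv_eq_of_mul_eq_one_right (hW v)]
    rw [h4, h5] at h2
    simp only [pow_zero, mul_one, mul_inv_cancel, MulAut.one_apply, Finset.prod_const,
      Finset.card_univ, ← Nat.card_eq_fintype_card, hodd'] at h2
    rw [eq_inv_of_mul_eq_one_left h2, inv_eq_of_mul_eq_one_right (hW v)]
  rw [Subgroup.eq_bot_iff_forall]
  intro f hf
  refine MulEquiv.ext fun v => ?_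
  have := hXfix ⟨f, hf⟩ v
  rw [hX] at this
  exact this

variable {G : Type*} [Group G] [Finite G] {p : ℕ}

/-- The action of the normaliser on the Sylow 2-subgroup. -/
abbrev act (S : Sylow 2 G) : Mn S →* MulAut (S : Subgroup G) :=
  (S : Subgroup G).normalizerMonoidHom

variable {S : Sylow 2 G}

theorem act_apply (g : Mn S) (s : (S : Subgroup G)) :
    ((act S g s : (S : Subgroup G)) : G) = g * s * (g : G)⁻¹ := rfl

theorem act_fix (g : Mn S) (s : (S : Subgroup G)) : act S g s = s ↔ Commute (g : G) s := by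
  rw [← Subtype.coe_inj, act_apply, mul_inv_eq_iff_eq_mul]
  rfl

/-- The normal subgroup of prime order of the automiser. -/
structure Data (S : Sylow 2 G) (p r : ℕ) (R : Subgroup (MulAut (S : Subgroup G))) : Prop where
  prime : r.Prime
  card_S : Nat.card (S : Subgroup G) = r + 1
  card_R : Nat.card R = r
  free_iff : ∀ g : Mn S, Free S (g : G) ↔ act S g ∈ R ∧ act S g ≠ 1
  normal : ∀ g : Mn S, ∀ f ∈ R, act S g * f * (act S g)⁻¹ ∈ R
  full : r = p → ∀ g : Mn S, act S g ∈ R
  inj : ∀ u : G, orderOf u = 2 → u ∉ Mn S → ∀ z : Mn S, u⁻¹ * z * u ∈ Mn S → act S z = 1 → z = 1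

theorem Setup.act_two (h : Setup S p) {g : Mn S} {k : ℕ} (hk : orderOf (g : G) = 2 ^ k) :
    act S g = 1 := by
  refine MulEquiv.ext fun s => ?_
  exact (act_fix g s).2 (h.commute_mem (mem_sylow_of_normalizes S g.2 hk) s.2)

theorem Setup.exists_odd_act (h : Setup S p) (g : Mn S) :
    ∃ b : Mn S, Odd (orderOf (b : G)) ∧ act S b = act S g := by
  obtain ⟨x, y, hxy, hx, hy, ⟨k, hk⟩, hodd⟩ := exists_two_odd (g : G)
  refine ⟨⟨y, zpowers_le.2 g.2 hy⟩, hodd, ?_⟩
  have hge : g = (⟨x, zpowers_le.2 g.2 hx⟩ : Mn S) * ⟨y, zpowers_le.2 g.2 hy⟩ := Subtype.ext hxy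
  have := congrArg (act S) hge
  rw [map_mul, h.act_two (g := ⟨x, zpowers_le.2 g.2 hx⟩) hk, one_mul] at this
  exact this.symm

theorem Setup.odd_range (h : Setup S p) : Odd (Nat.card (act S).range) := by
  rw [← Nat.not_even_iff_odd, even_iff_two_dvd]
  intro hd
  haveI : Fact (Nat.Prime 2) := ⟨Nat.prime_two⟩
  obtain ⟨⟨_, g, rfl⟩, hg⟩ := exists_prime_orderOf_dvd_card' 2 hd
  replace hg : orderOf (act S g) = 2 := (Subgroup.orderOf_coe _).trans hg
  obtain ⟨b, hb, hbg⟩ := h.exists_odd_act g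
  have h2 : 2 ∣ orderOf (b : G) := by
    rw [orderOf_coe, ← hg, ← hbg]
    exact orderOf_map_dvd _ b
  exact Nat.not_even_iff_odd.2 hb (even_iff_two_dvd.2 h2)

theorem Setup.free_fix (h : Setup S p) (g : Mn S) :
    Free S (g : G) ↔ ∀ s : (S : Subgroup G), act S g s = s → s = 1 :=
  ⟨fun hf s hs => by_contra fun hs1 => hf.2 s s.2 (fun e => hs1 (Subtype.ext e)) ((act_fix g s).1 hs),
    fun hf => ⟨g.2, fun s hs hs1 hc => hs1 (congrArg Subtype.val (hf ⟨s, hs⟩ ((act_fix g _).2 hc)))⟩⟩

theorem Setup.free_act_ne_one (h : Setup S p) {g : Mn S} (hg : Free S (g : G)) : act S g ≠ 1 := by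
  intro he
  obtain ⟨s, hs, hs1⟩ := h.exists_ne_one
  exact hs1 (congrArg Subtype.val ((h.free_fix g).1 hg ⟨s, hs⟩ (by rw [he]; rfl)))

/-- The odd part of the Sylow normaliser: the case with a free element of order other than `p`. -/
theorem Setup.data_of_free (h : Setup S p) {y : G} (hy : Free S y) (hyp : orderOf y ≠ p) :
    ∃ R, Data S p (orderOf y) R := by
  classical
  haveI : Fact (Nat.Prime 2) := ⟨Nat.prime_two⟩
  set r := orderOf y with hr
  have hrp : r.Prime := h.free_prime hy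
  have hr2 : r ≠ 2 := fun e => Nat.not_odd_iff_even.2 even_two (e ▸ h.free_odd hy)
  haveI := Fact.mk hrp
  haveI := h.solvable_Mn
  have hp := h.twoP
  -- no abelian-type subgroup of free elements
  have hsq : ∀ l : ℕ, l.Prime → l ≠ 2 → l ≠ p → ¬ l ^ 2 ∣ Nat.card (Mn S) := by
    intro l hl hl2 hlp hd
    haveI := Fact.mk hl
    obtain ⟨V, hV⟩ := Sylow.exists_subgroup_card_pow_prime l hd
    exact not_pair h hl hl hlp hlp hl2 hl2 (V.map (Mn S).subtype) (map_subtype_le _)
      (by rw [card_map_of_injective (Mn S).subtype_injective, hV, sq])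
  have hprimes : ∀ l : ℕ, l.Prime → l ∣ Nat.card (Mn S) → l = 2 ∨ l = p ∨ l = r := by
    intro l hl hd
    by_contra hcon
    push Not at hcon
    obtain ⟨hl2, hlp, hlr⟩ := hcon
    have hrd : r ∣ Nat.card (Mn S) := Subgroup.orderOf_dvd_natCard _ hy.1
    obtain ⟨n, hn⟩ := (Nat.Coprime.mul_dvd_of_dvd_of_dvd ((Nat.coprime_primes hl hrp).2 hlr) hd hrd)
    have hcop : Nat.Coprime (l * r) n := by
      refine Nat.Coprime.mul_left ((hl.coprime_iff_not_dvd).2 fun hln => hsq l hl hl2 hlp ?_)
        ((hrp.coprime_iff_not_dvd).2 fun hrn => hsq r hrp hr2 hyp ?_)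
      · rw [hn, sq]; exact mul_dvd_mul (Dvd.intro _ rfl) hln
      · rw [hn, sq]; exact mul_dvd_mul (Dvd.intro_left _ rfl) hrn
    obtain ⟨H, hH⟩ := H1.hall_exists (l * r) n hn hcop
    exact not_pair h hl hrp hlp hyp hl2 hr2 (H.map (Mn S).subtype) (map_subtype_le _)
      (by rw [card_map_of_injective (Mn S).subtype_injective, hH])
  -- the range
  set A := (act S).range with hA
  have hAdvd : Nat.card A ∣ Nat.card (Mn S) := card_range_dvd _
  haveI : Group.IsSolvable A := Group.isSolvable_of_surjective (act S).rangeRestrict_surjective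
  have hAodd : Odd (Nat.card A) := h.odd_range
  set Y : Mn S := ⟨y, hy.1⟩ with hY
  have hay : orderOf (act S Y) = r := by
    rcases (Nat.dvd_prime hrp).1 (show orderOf (act S Y) ∣ r by
      rw [hr, show y = ((Y : Mn S) : G) from rfl, orderOf_coe]; exact orderOf_map_dvd _ Y) with h1 | h1
    · exact absurd (orderOf_eq_one_iff.1 h1) (h.free_act_ne_one (g := Y) hy)
    · exact h1
  haveI : Nontrivial A := ⟨⟨act S Y, Y, rfl⟩, 1, fun e =>
    h.free_act_ne_one (g := Y) hy (congrArg Subtype.val e)⟩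
  -- no commuting elements of orders `p` and `r`
  have hnocomm : ∀ f a : MulAut (S : Subgroup G), f ∈ A → a ∈ A → Commute f a → orderOf f = p →
      orderOf a = r → False := by
    intro f a hf ha hc hfo hao
    obtain ⟨g, hg⟩ := A.mul_mem hf ha
    have h1 : orderOf (f * a) = p * r := by
      rw [hc.orderOf_mul_eq_mul_orderOf_of_coprime (by
        rw [hfo, hao]; exact (Nat.coprime_primes hp.prime hrp).2 (Ne.symm hyp)), hfo, hao]
    have h2 : p * r ∣ orderOf (g : G) := by
      rw [orderOf_coe, ← h1, ← hg]; exact orderOf_map_dvd _ g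
    rcases hp.orders (g : G) with h3 | h3 | h3
    · rw [h3] at h2
      exact hp.prime.ne_one (Nat.eq_one_of_mul_eq_one_right (Nat.dvd_one.1 h2))
    · have h4 := (Nat.prime_dvd_prime_iff_eq hp.prime h3).1 ((Dvd.intro r rfl).trans h2)
      rw [← h4] at h2
      exact hyp ((Nat.prime_dvd_prime_iff_eq hrp hp.prime).1 ((Dvd.intro_left p rfl).trans h2))
    · rw [h3, mul_comm p r] at h2
      exact hr2 ((Nat.prime_dvd_prime_iff_eq hrp Nat.prime_two).1
        (Dvd.intro 1 (mul_one r) |>.trans (Nat.dvd_of_mul_dvd_mul_right hp.prime.pos h2)))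
  letI : CommGroup (S : Subgroup G) :=
    { (inferInstance : Group (S : Subgroup G)) with
      mul_comm := fun a b => Subtype.ext (h.commute_mem a.2 b.2).eq }
  have hS2 : ∀ w : (S : Subgroup G), w * w = 1 :=
    fun w => Subtype.ext (hp.sq_of_isPGroup S.isPGroup' w w.2)
  -- the normal subgroup of order `r`
  obtain ⟨e, V, he, hVn, hV1, hVe⟩ := H1.exists_normal_pgroup_ne_bot A
  haveI := Fact.mk he
  haveI := hVn
  obtain ⟨k, hk⟩ := IsPGroup.iff_card.1 hVe
  have hk0 : k ≠ 0 := fun e0 => hV1 (Subgroup.card_eq_one.1 (by rw [hk, e0, pow_zero]))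
  set R := V.map A.subtype with hR
  have hRcard : Nat.card R = e ^ k := by rw [card_map_of_injective A.subtype_injective, hk]
  have hRA : R ≤ A := map_subtype_le _
  have hRn : ∀ a ∈ A, ∀ f ∈ R, a * f * a⁻¹ ∈ R := by
    rintro a ha _ ⟨f, hf, rfl⟩
    exact ⟨_, hVn.conj_mem f hf ⟨a, ha⟩, rfl⟩
  have hed : e ∣ Nat.card A := (dvd_pow_self e hk0).trans (hk ▸ card_subgroup_dvd_card V)
  have her : e = r := by
    rcases hprimes e he (hed.trans hAdvd) with h1 | h1 | h1
    · exact absurd (even_iff_two_dvd.2 (h1 ▸ hed)) (Nat.not_even_iff_odd.2 hAodd)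
    · exfalso
      refine hV1 ((map_eq_bot_iff_of_injective _ A.subtype_injective).1
        (eq_bot_of_fpf (W := (S : Subgroup G)) hS2 R ?_ hrp hay (fun f hf => hRn _ ⟨Y, rfl⟩ f hf)
          ((h.free_fix Y).1 hy) fun f hf hc => ?_))
      · rw [hRcard, h1]; exact hp.odd_p.pow
      · by_contra hf1
        obtain ⟨j, hj⟩ := IsPGroup.iff_orderOf.1 (hVe.map A.subtype) ⟨f, hf⟩
        rw [orderOf_mk, h1] at hj
        have hj0 : j ≠ 0 := fun e0 => hf1 (orderOf_eq_one_iff.1 (by rw [hj, e0, pow_zero]))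
        refine hnocomm (f ^ p ^ (j - 1)) (act S Y) (pow_mem (hRA hf) _) ⟨Y, rfl⟩ (hc.pow_left _) ?_ hay
        rw [orderOf_pow' _ (pow_ne_zero _ hp.prime.ne_zero), hj,
          Nat.gcd_eq_right (Nat.pow_dvd_pow p (Nat.sub_le j 1)),
          Nat.pow_div (Nat.sub_le j 1) hp.prime.pos, show j - (j - 1) = 1 by omega, pow_one]
    · exact h1
  subst her
  have hRr : Nat.card R = r := by
    rcases Nat.lt_or_ge k 2 with h1 | h1
    · rw [hRcard, show k = 1 by omega, pow_one]
    · exact absurd ((pow_dvd_pow r h1).trans (hk ▸ (card_subgroup_dvd_card V).trans hAdvd))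
        (hsq r hrp hr2 hyp)
  have hRmem : ∀ a ∈ A, orderOf a = r → a ∈ R := by
    intro a ha hao
    have hk1 : k = 1 := by
      have := hRr; rw [hRcard] at this
      exact Nat.pow_right_injective he.two_le (this.trans (pow_one r).symm)
    have hcop : Nat.Coprime r V.index := by
      refine he.coprime_iff_not_dvd.2 fun hd => hsq r hrp hr2 hyp ?_
      refine dvd_trans ?_ hAdvd
      rw [← V.card_mul_index, hk, hk1, pow_one, sq]
      exact mul_dvd_mul_left r hd
    have h2 : orderOf (QuotientGroup.mk' V ⟨a, ha⟩) = 1 :=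
      Nat.eq_one_of_dvd_coprimes hcop ((orderOf_map_dvd _ _).trans (by rw [orderOf_mk, hao]))
        (by rw [V.index_eq_card]; exact orderOf_dvd_natCard _)
    exact ⟨⟨a, ha⟩, (QuotientGroup.eq_one_iff _).1 (orderOf_eq_one_iff.1 h2), rfl⟩
  have hYR : act S Y ∈ R := hRmem _ ⟨Y, rfl⟩ hay
  have hgen : R = zpowers (act S Y) := by
    refine (eq_of_le_of_card_ge (zpowers_le.2 hYR) ?_).symm
    rw [hRr, Nat.card_zpowers, hay]
  -- free elements have order `r`
  have hfree : ∀ g : Mn S, Free S (g : G) → orderOf (g : G) = r := by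
    intro g hg
    have hgp := h.free_prime hg
    have hg2 : orderOf (g : G) ≠ 2 := fun h2 =>
      Nat.not_odd_iff_even.2 even_two (h2 ▸ h.free_odd hg)
    rcases hprimes _ hgp (Subgroup.orderOf_dvd_natCard _ g.2) with h1 | h1 | h1
    · exact absurd h1 hg2
    · exfalso
      have hag : orderOf (act S g) = p := by
        rcases (Nat.dvd_prime hp.prime).1 (show orderOf (act S g) ∣ p by
          rw [← h1, orderOf_coe]; exact orderOf_map_dvd _ g) with h2 | h2
        · exact absurd (orderOf_eq_one_iff.1 h2) (h.free_act_ne_one hg)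
        · exact h2
      have := eq_bot_of_fpf (W := (S : Subgroup G)) hS2 R (by rw [hRr]; exact hrp.odd_of_ne_two hr2)
        hp.prime hag (fun f hf => hRn _ ⟨g, rfl⟩ f hf) ((h.free_fix g).1 hg) fun f hf hc => by
          by_contra hf1
          have hfo : orderOf f = r := by
            rcases (Nat.dvd_prime hrp).1 (hRr ▸ Subgroup.orderOf_dvd_natCard R hf) with h2 | h2
            · exact absurd (orderOf_eq_one_iff.1 h2) hf1
            · exact h2
          exact hnocomm (act S g) f ⟨g, rfl⟩ (hRA hf) hc.symm hag hfo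
      rw [this, card_bot] at hRr
      exact hrp.ne_one hRr.symm
    · exact h1
  have hiff : ∀ g : Mn S, Free S (g : G) ↔ act S g ∈ R ∧ act S g ≠ 1 := by
    intro g
    refine ⟨fun hg => ⟨?_, h.free_act_ne_one hg⟩, fun ⟨hgR, hg1⟩ => (h.free_fix g).2 fun s hs => ?_⟩
    · refine hRmem _ ⟨g, rfl⟩ ?_
      rcases (Nat.dvd_prime hrp).1 (show orderOf (act S g) ∣ r by
        rw [← hfree g hg, orderOf_coe]; exact orderOf_map_dvd _ g) with h2 | h2
      · exact absurd (orderOf_eq_one_iff.1 h2) (h.free_act_ne_one hg)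
      · exact h2
    · refine (h.free_fix Y).1 hy s ?_
      have hgenR : zpowers (act S g) = R := eq_of_le_of_card_ge (zpowers_le.2 hgR) (by
        rw [hRr, Nat.card_zpowers]
        rcases (Nat.dvd_prime hrp).1 (hRr ▸ Subgroup.orderOf_dvd_natCard R hgR) with h2 | h2
        · exact absurd (orderOf_eq_one_iff.1 h2) hg1
        · rw [h2])
      have hst : zpowers (act S g) ≤ MulAction.stabilizer (MulAut (S : Subgroup G)) s :=
        zpowers_le.2 hs
      exact hst (hgenR ▸ hYR)
  have hinj : ∀ u : G, orderOf u = 2 → u ∉ Mn S → ∀ z : Mn S, u⁻¹ * z * u ∈ Mn S →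
      act S z = 1 → z = 1 := by
    intro u hu huM z hzu hz1
    by_contra hzne
    have hzc : ∀ s ∈ (S : Subgroup G), Commute (z : G) s := fun s hs =>
      (act_fix z ⟨s, hs⟩).1 (by rw [hz1]; rfl)
    have hodd := inter_odd h huM z.2 hzu
    have hzp := h.eq_p_of_not_free z.2 (fun hf => h.free_act_ne_one hf hz1) hodd
      fun e1 => hzne (Subtype.ext e1)
    set w : Mn S := ⟨u⁻¹ * z * u, hzu⟩
    have hwo : orderOf (w : G) = p := by
      rw [show (w : G) = MulAut.conj u⁻¹ (z : G) by simp [w], MulEquiv.orderOf_eq, hzp]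
    have hwnf : ¬ Free S (w : G) := fun hf => hyp ((hfree w hf).symm.trans hwo)
    simp only [Free, w.2, true_and, not_forall, not_not] at hwnf
    obtain ⟨s, hs, hs1, hws⟩ := hwnf
    have hzs : u * s * u⁻¹ ∈ centralizer ({(z : G)} : Set G) := mem_centralizer_singleton_iff.2 (by
      have h1 := (hws.map (MulAut.conj u).toMonoidHom).symm.eq
      simpa [w, mul_assoc] using h1)
    refine huM (inv_mem_iff.1 (H65.se_conj_mem h.se (t := s) (h.invol_of_mem hs hs1)
      (le_normalizer hs) ?_))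
    rw [inv_inv]
    exact h.centralizer_le hzp hzc hzs
  refine ⟨R, hrp, ?_, hRr, hiff, fun g f hf => hRn _ ⟨g, rfl⟩ f hf, fun h1 => absurd h1 hyp, hinj⟩
  -- `q = r + 1`
  obtain ⟨u, hu, huM⟩ := H67.se_exists_invol_not_mem h.se
  have hu' : u⁻¹ = u := inv_eq_of_mul_eq_one_right (invol_sq hu)
  have hle1 : Nat.card (Inv S u) ≤ r := by
    rw [← hRr]
    have hmem : ∀ d : Inv S u, act S ⟨d.1, d.2.1⟩ ∈ R := fun d => by
      by_cases hd : d.1 = 1
      · rw [show (⟨d.1, d.2.1⟩ : Mn S) = 1 from Subtype.ext hd, map_one]; exact R.one_mem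
      · exact ((hiff _).1 (h.inv_free hu huM d.2.1 d.2.2 hd)).1
    refine Nat.card_le_card_of_injective (fun d => (⟨_, hmem d⟩ : R)) fun d d' hdd => ?_
    have h1 : act S ((⟨d'.1, d'.2.1⟩ : Mn S)⁻¹ * ⟨d.1, d.2.1⟩) = 1 := by
      have h0 : act S ⟨d.1, d.2.1⟩ = act S ⟨d'.1, d'.2.1⟩ := congrArg Subtype.val hdd
      rw [map_mul, map_inv, h0, inv_mul_cancel]
    have hD : ∀ c : Inv S u, u⁻¹ * c.1 * u ∈ Mn S := fun c => by
      obtain ⟨c, hc, hci⟩ := c
      show u⁻¹ * c * u ∈ Mn S
      rw [hu'] at hci ⊢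
      rw [hci]; exact inv_mem hc
    have h2 := hinj u hu huM _ (by
      show u⁻¹ * (d'.1⁻¹ * d.1) * u ∈ Mn S
      rw [show u⁻¹ * (d'.1⁻¹ * d.1) * u = (u⁻¹ * d'.1 * u)⁻¹ * (u⁻¹ * d.1 * u) by group]
      exact mul_mem (inv_mem (hD d')) (hD d)) h1
    exact Subtype.ext (congrArg Subtype.val (inv_mul_eq_one.1 h2)).symm
  rw [h.card_inv hu huM] at hle1
  have hle2 : r ≤ Nat.card (S : Subgroup G) - 1 := by
    obtain ⟨t, htS, ht1⟩ := h.exists_ne_one
    set T : (S : Subgroup G) := ⟨t, htS⟩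
    haveI := Fintype.ofFinite (S : Subgroup G)
    have hne : ∀ f : R, (f : MulAut (S : Subgroup G)) T ≠ 1 := fun f hf =>
      ht1 (congrArg Subtype.val ((MulEquiv.map_eq_one_iff _).1 hf))
    have := Nat.card_le_card_of_injective
      (fun f : R => (⟨(f : MulAut (S : Subgroup G)) T, hne f⟩ : {s : (S : Subgroup G) // s ≠ 1}))
      fun f g hfg => by
        by_contra hfg'
        have h1 : ((g : MulAut (S : Subgroup G))⁻¹ * f) T = T := by
          show (g : MulAut (S : Subgroup G))⁻¹ ((f : MulAut (S : Subgroup G)) T) = T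
          have h0 : (f : MulAut (S : Subgroup G)) T = (g : MulAut (S : Subgroup G)) T :=
            congrArg Subtype.val hfg
          rw [h0]
          exact (g : MulAut (S : Subgroup G)).symm_apply_apply T
        obtain ⟨w, hw⟩ := hRA (R.mul_mem (R.inv_mem g.2) f.2)
        have hwf : Free S (w : G) := (hiff w).2 ⟨hw ▸ R.mul_mem (R.inv_mem g.2) f.2, fun e1 =>
          hfg' (Subtype.ext (inv_mul_eq_one.1 (hw.symm.trans e1)).symm)⟩
        exact ht1 (congrArg Subtype.val ((h.free_fix w).1 hwf T (hw ▸ h1)))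
    rw [hRr, Nat.card_eq_fintype_card, Fintype.card_subtype_compl, Fintype.card_subtype_eq,
      ← Nat.card_eq_fintype_card] at this
    exact this
  have := h.big
  omega
where
  not_pair (h : Setup S p) {l l' : ℕ} (hl : l.Prime) (hl' : l'.Prime) (hlp : l ≠ p) (hlp' : l' ≠ p)
      (hl2 : l ≠ 2) (hl2' : l' ≠ 2) (H : Subgroup G) (hHM : H ≤ Mn S)
      (hH : Nat.card H = l * l') : False := by
    haveI := h.twoP.comm_of_isPGroup S.isPGroup'
    have hfpf : ∀ a ∈ H, a ≠ 1 → (S : Subgroup G) ⊓ centralizer {a} = ⊥ := by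
      intro a ha ha1
      have hd : orderOf a ∣ l * l' := hH ▸ Subgroup.orderOf_dvd_natCard H ha
      have hodd : Odd (orderOf a) :=
        ((hl.odd_of_ne_two hl2).mul (hl'.odd_of_ne_two hl2')).of_dvd_nat hd
      have hap := h.twoP.odd_prime a hodd ha1
      have hne : orderOf a ≠ p := by
        intro e1
        rcases hap.dvd_mul.1 hd with h1 | h1
        · exact hlp (((Nat.prime_dvd_prime_iff_eq hap hl).1 h1).symm.trans e1)
        · exact hlp' (((Nat.prime_dvd_prime_iff_eq hap hl').1 h1).symm.trans e1)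
      have hfree := h.free_of_order (hHM ha) hap
        (fun e1 => Nat.not_odd_iff_even.2 even_two (e1 ▸ hodd)) hne
      rw [Subgroup.eq_bot_iff_forall]
      rintro s ⟨hs, hsc⟩
      by_contra hs1
      exact hfree.2 s hs hs1 (mem_centralizer_singleton_iff.1 hsc).symm
    have hcyc := H2.isCyclic_of_fpf_subgroup (A := H) (V := (S : Subgroup G)) hHM
      (fun hb => by have := h.big; rw [hb, card_bot] at this; omega) hfpf
      (Or.inr ⟨l, l', hl, hl', hH⟩)
    obtain ⟨g, hg⟩ := hcyc.exists_ofOrder_eq_natCard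
    rw [hH, ← orderOf_coe] at hg
    have hodd : Odd (orderOf (g : G)) := hg ▸ (hl.odd_of_ne_two hl2).mul (hl'.odd_of_ne_two hl2')
    have := h.twoP.odd_prime (g : G) hodd fun e1 => by
      rw [e1, orderOf_one] at hg
      exact hl.ne_one (Nat.eq_one_of_mul_eq_one_right hg.symm)
    rw [hg] at this
    exact Nat.not_prime_mul hl.ne_one hl'.ne_one this

/-- The case in which all free elements have order `p`. -/
theorem Setup.data_of_all (h : Setup S p) (hall : ∀ g : G, Free S g → orderOf g = p) :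
    ∃ R, Data S p p R := by
  classical
  haveI : Fact (Nat.Prime 2) := ⟨Nat.prime_two⟩
  haveI := Fact.mk h.twoP.prime
  have hodd : ∀ g ∈ Mn S, Odd (orderOf g) → g ≠ 1 → orderOf g = p := fun g hg ho hg1 => by
    by_cases hf : Free S g
    · exact hall g hf
    · exact h.eq_p_of_not_free hg hf ho hg1
  set A := (act S).range with hA
  have hAp : IsPGroup p A := by
    refine IsPGroup.iff_orderOf.2 ?_
    rintro ⟨_, g, rfl⟩
    rw [← Subgroup.orderOf_coe]
    show ∃ k, orderOf (act S g) = p ^ k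
    obtain ⟨b, hb, hbg⟩ := h.exists_odd_act g
    rw [← hbg]
    by_cases hb1 : (b : G) = 1
    · exact ⟨0, by rw [show b = 1 from Subtype.ext hb1, map_one, orderOf_one, pow_zero]⟩
    · have h1 : orderOf (act S b) ∣ p := by
        rw [← hodd _ b.2 hb hb1, orderOf_coe]; exact orderOf_map_dvd _ b
      obtain ⟨i, -, hi⟩ := (Nat.dvd_prime_pow h.twoP.prime).1
        (show orderOf (act S b) ∣ p ^ 1 by rwa [pow_one])
      exact ⟨i, hi⟩
  obtain ⟨t, htS, ht1⟩ := h.exists_ne_one
  set T : (S : Subgroup G) := ⟨t, htS⟩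
  have htrans : ∀ s : (S : Subgroup G), s ≠ 1 → ∃ f : A, (f : MulAut (S : Subgroup G)) T = s := by
    intro s hs
    obtain ⟨g, hg, hgs⟩ := H67.se_conj_in h.se (h.invol_of_mem htS ht1) (le_normalizer htS)
      (h.invol_of_mem s.2 fun e => hs (Subtype.ext e)) (le_normalizer s.2)
    exact ⟨⟨_, ⟨g, hg⟩, rfl⟩, Subtype.ext hgs⟩
  haveI := Fintype.ofFinite (S : Subgroup G)
  set q := Nat.card (S : Subgroup G)
  have hcardne : Nat.card {s : (S : Subgroup G) // s ≠ 1} = q - 1 := by
    rw [Nat.card_eq_fintype_card, Fintype.card_subtype_compl, Fintype.card_subtype_eq,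
      ← Nat.card_eq_fintype_card]
  have horb : Nat.card (MulAction.orbit A T) = q - 1 := by
    rw [← hcardne]
    refine Nat.card_congr (Equiv.subtypeEquivRight fun s => ⟨?_, fun hs => ?_⟩)
    · rintro ⟨f, rfl⟩ he
      exact ht1 (congrArg Subtype.val ((MulEquiv.map_eq_one_iff _).1 he))
    · obtain ⟨f, hf⟩ := htrans s hs
      exact ⟨f, hf⟩
  have hdvd : q - 1 ∣ Nat.card A := by
    rw [← horb, Nat.card_congr (MulAction.orbitEquivQuotientStabilizer A T), ← Subgroup.index_eq_card]
    exact index_dvd_card _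
  obtain ⟨a, ha⟩ := IsPGroup.iff_card.1 hAp
  obtain ⟨d, -, hd⟩ := (Nat.dvd_prime_pow h.twoP.prime).1 (ha ▸ hdvd)
  obtain ⟨m, hm⟩ := IsPGroup.iff_card.1 S.isPGroup'
  have hq := h.big
  have hpodd := Nat.odd_iff.1 h.twoP.odd_p
  have hd1 : d = 1 := by
    refine ((H33.HalfTrans.pow_add_one_two_pow (k := m) hpodd
      (by have := h.twoP.prime.two_le; omega) (by rw [← hd, ← hm]; omega))).resolve_right fun h0 => ?_
    rw [h0, pow_zero] at hd
    omega
  rw [hd1, pow_one] at hd
  -- the range has order `p`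
  have hAcard : Nat.card A = p := by
    have hinj : Function.Injective (fun f : A =>
        (Equiv.subtypeEquiv (f : MulAut (S : Subgroup G)).toEquiv (fun s => by simp) :
          Equiv.Perm {s : (S : Subgroup G) // s ≠ 1})) := by
      intro f g hfg
      refine Subtype.ext (MulEquiv.ext fun s => ?_)
      by_cases hs : s = 1
      · rw [hs, map_one, map_one]
      · exact congrArg Subtype.val (Equiv.congr_fun hfg ⟨s, hs⟩)
    let φ : A →* Equiv.Perm {s : (S : Subgroup G) // s ≠ 1} :=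
      { toFun := fun f => Equiv.subtypeEquiv (f : MulAut (S : Subgroup G)).toEquiv (fun s => by simp)
        map_one' := Equiv.ext fun s => rfl
        map_mul' := fun f g => Equiv.ext fun s => rfl }
    have h1 := Subgroup.card_dvd_of_injective φ hinj
    rw [Nat.card_perm, hcardne, hd, ha] at h1
    have ha1 : a ≤ 1 := by
      by_contra hlt
      have h2 := (pow_dvd_pow p (show 2 ≤ a by omega)).trans h1
      rw [← Nat.mul_factorial_pred h.twoP.prime.ne_zero, sq] at h2
      have h3 := (h.twoP.prime.dvd_factorial).1 (Nat.dvd_of_mul_dvd_mul_left h.twoP.prime.pos h2)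
      have := h.twoP.prime.two_le
      omega
    rcases Nat.lt_or_ge a 1 with h0 | h1'
    · rw [show a = 0 by omega, pow_zero] at ha
      rw [ha] at hdvd
      have := Nat.dvd_one.1 hdvd
      omega
    · rw [ha, show a = 1 by omega, pow_one]
  have hiff : ∀ g : Mn S, Free S (g : G) ↔ act S g ∈ A ∧ act S g ≠ 1 := by
    refine fun g => ⟨fun hg => ⟨⟨g, rfl⟩, h.free_act_ne_one hg⟩, fun ⟨_, hg1⟩ =>
      (h.free_fix g).2 fun s hs => ?_⟩
    by_contra hs1
    have hgen : zpowers (act S g) = A := eq_of_le_of_card_ge (zpowers_le.2 ⟨g, rfl⟩) (by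
      rw [hAcard, Nat.card_zpowers]
      rcases (Nat.dvd_prime h.twoP.prime).1 (hAcard ▸ Subgroup.orderOf_dvd_natCard A ⟨g, rfl⟩)
        with h2 | h2
      · exact absurd (orderOf_eq_one_iff.1 h2) hg1
      · rw [h2])
    have hst : A ≤ MulAction.stabilizer (MulAut (S : Subgroup G)) s := hgen ▸ zpowers_le.2 hs
    -- every involution is `s`
    have hall' : ∀ x : (S : Subgroup G), x ≠ 1 → x = s := by
      intro x hx
      obtain ⟨f, hf⟩ := htrans x hx
      obtain ⟨f', hf'⟩ := htrans s hs1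
      have hfix : ∀ f : A, (f : MulAut (S : Subgroup G)) s = s := fun f => hst f.2
      have hTs : T = s := by
        have := hfix (f'⁻¹)
        rw [← hf'] at this
        rw [← hf']
        show T = (f' : MulAut (S : Subgroup G)) T
        have h3 : ((f'⁻¹ : A) : MulAut (S : Subgroup G)) ((f' : MulAut (S : Subgroup G)) T) = T :=
          (f' : MulAut (S : Subgroup G)).symm_apply_apply T
        exact h3.symm.trans this
      rw [← hf, hTs, hfix]
    haveI : Subsingleton {x : (S : Subgroup G) // x ≠ 1} :=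
      ⟨fun x y => Subtype.ext ((hall' x x.2).trans (hall' y y.2).symm)⟩
    have := Finite.card_le_one_iff_subsingleton.2
      (inferInstance : Subsingleton {x : (S : Subgroup G) // x ≠ 1})
    omega
  have hnf : ∀ g ∈ Mn S, ¬ Free S g → Odd (orderOf g) → ∀ s ∈ (S : Subgroup G), Commute g s := by
    intro g hg hnf _ s hs
    have h1 : act S ⟨g, hg⟩ = 1 := by_contra fun hne => hnf ((hiff ⟨g, hg⟩).2 ⟨⟨_, rfl⟩, hne⟩)
    exact (act_fix ⟨g, hg⟩ ⟨s, hs⟩).1 (by rw [h1]; rfl)
  refine ⟨A, h.twoP.prime, by omega, hAcard, hiff, fun g f hf =>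
    mul_mem (mul_mem ⟨g, rfl⟩ hf) (inv_mem ⟨g, rfl⟩), fun _ g => ⟨g, rfl⟩, ?_⟩
  intro u hu huM z hzu hz1
  by_contra hne
  have hzi := h.inter_inverted hodd hnf hu huM z.2 hzu
  exact h.free_act_ne_one
    (h.inv_free hu huM z.2 hzi fun e1 => hne (Subtype.ext e1)) hz1

theorem Setup.exists_data (h : Setup S p) : ∃ r R, Data S p r R := by
  by_cases hI : ∃ g, Free S g ∧ orderOf g ≠ p
  · obtain ⟨g, hg, hgp⟩ := hI
    exact ⟨_, h.data_of_free hg hgp⟩
  · push Not at hI
    exact ⟨_, h.data_of_all hI⟩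

end H59.OneComp
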